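import Groth.Agent.CurvFam16.Gonal.Order
import Mathlib.RingTheory.Nullstellensatz
import Mathlib.RingTheory.Filtration
import Mathlib.RingTheory.IntegralClosure.IntegrallyClosed
import Mathlib.RingTheory.Polynomial.ScaleRoots
import Mathlib.RingTheory.Jacobson.Polynomial
import Mathlib.RingTheory.Jacobson.Ring

/-! Integral elements are regular where the plane curve is smooth. -/

set_option linter.style.haveILetI false
set_option backward.isDefEq.respectTransparency false

namespace Groth.Agent.CurvFam16.Gonal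

open Polynomial

variable {k K : Type*} [Field k] [CommRing K]

/-- Evaluation at the point `(x, y) = (a, b)`. -/
noncomputable def evPt (a b : k) : (k[X])[X] →+* k := eval₂RingHom (evalRingHom b) a

theorem evPt_C (a b : k) (f : k[X]) : evPt a b (C f) = f.eval b := by simp [evPt]

theorem evPt_X (a b : k) : evPt a b X = a := by simp [evPt]

theorem evPt_eq (a b : k) (f : (k[X])[X]) : evPt a b f = (f.eval (C a)).eval b := by
  show eval₂ (evalRingHom b) a f = (evalRingHom b) (eval₂ (RingHom.id _) (C a) f)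
  rw [hom_eval₂, RingHom.comp_id]
  simp

theorem sub_evPt_mem (a b : k) (f : (k[X])[X]) :
    f - C (C (evPt a b f)) ∈ Ideal.span ({X - C (C a), C (X - C b)} : Set (k[X])[X]) := by
  obtain ⟨g, hg⟩ : X - C (C a) ∣ f - C (f.eval (C a)) := X_sub_C_dvd_sub_C_eval
  obtain ⟨h, hh⟩ : X - C b ∣ f.eval (C a) - C ((f.eval (C a)).eval b) := X_sub_C_dvd_sub_C_eval
  have he : (f.eval (C a)).eval b = evPt a b f := (evPt_eq a b f).symm
  rw [he] at hh
  refine Ideal.mem_span_pair.2 ⟨g, C h, ?_⟩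
  rw [mul_comm g, ← hg, mul_comm (C h), ← map_mul, ← hh, map_sub]
  ring

theorem evPt_derivative (a b : k) (f : (k[X])[X]) :
    evPt a b (derivative f) = (derivative (f.map (evalRingHom b))).eval a := by
  rw [derivative_map, eval_map]
  rfl

/-- The partial derivative in `y`, evaluated. -/
noncomputable def dyAt (a b : k) (f : (k[X])[X]) : k :=
  (derivative (f.eval (C a))).eval b

/-- The curve has no singular point with `y ≠ 0`. -/
def SmoothOff (G : (k[X])[X]) : Prop :=
  ∀ a b : k, b ≠ 0 → evPt a b G = 0 → evPt a b (derivative G) ≠ 0 ∨ dyAt a b G ≠ 0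

theorem exists_decomp (a b : k) (G : (k[X])[X]) (h0 : evPt a b G = 0) :
    ∃ A B : (k[X])[X], G = (X - C (C a)) * A + C (X - C b) * B ∧
      evPt a b A = evPt a b (derivative G) ∧ evPt a b B = dyAt a b G := by
  have h := sub_evPt_mem a b G
  rw [h0, map_zero, map_zero, sub_zero, Ideal.mem_span_pair] at h
  obtain ⟨A, B, hAB⟩ := h
  refine ⟨A, B, by rw [← hAB]; ring, ?_, ?_⟩
  · rw [← hAB]
    simp [evPt, derivative_mul]
  · rw [← hAB]
    simp [dyAt, evPt_eq, derivative_mul]

theorem exists_maximal_pt [IsAlgClosed k] (M : Ideal (k[X])[X]) (hM : M.IsMaximal) :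
    ∃ a b : k, RingHom.ker (evPt a b) = M := by
  haveI := hM
  letI := Ideal.Quotient.field M
  haveI : Algebra.FiniteType k ((k[X])[X] ⧸ M) :=
    (inferInstance : Algebra.FiniteType k (k[X])[X]).of_surjective
      (Ideal.Quotient.mkₐ k M) Ideal.Quotient.mk_surjective
  haveI : Module.Finite k ((k[X])[X] ⧸ M) := finite_of_finite_type_of_isJacobsonRing k _
  obtain hbij := IsAlgClosed.algebraMap_bijective_of_isIntegral (k := k) (K := (k[X])[X] ⧸ M)
  obtain ⟨a, ha⟩ := hbij.2 (Ideal.Quotient.mk M X)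
  obtain ⟨b, hb⟩ := hbij.2 (Ideal.Quotient.mk M (C X))
  refine ⟨a, b, ((RingHom.ker_isMaximal_of_surjective (evPt a b)
    fun c => ⟨C (C c), (evPt_C a b _).trans (eval_C ..)⟩).eq_of_le hM.ne_top ?_)⟩
  intro f hf
  have h := sub_evPt_mem a b f
  rw [show evPt a b f = 0 from hf, map_zero, map_zero, sub_zero] at h
  refine (Ideal.span_le.2 ?_) h
  rintro _ (rfl | rfl) <;> rw [SetLike.mem_coe, ← Ideal.Quotient.eq_zero_iff_mem, map_sub]
  · rw [sub_eq_zero, ← ha]; rfl
  · rw [map_sub, sub_eq_zero, ← hb]; rfl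

theorem isDomain_of_principal {L : Type*} [CommRing L] [IsLocalRing L] [IsNoetherianRing L] {t : L}
    (hm : IsLocalRing.maximalIdeal L = Ideal.span {t}) (hnil : ¬ IsNilpotent t) :
    IsDomain L ∧ IsPrincipalIdealRing L := by
  have hfac : ∀ z : L, z ≠ 0 → ∃ (n : ℕ) (u : L), IsUnit u ∧ z = t ^ n * u := by
    intro z hz
    have hbot := Ideal.iInf_pow_eq_bot_of_isLocalRing (IsLocalRing.maximalIdeal L)
      (IsLocalRing.maximalIdeal.isMaximal L).ne_top
    have hex : ∃ n, z ∉ IsLocalRing.maximalIdeal L ^ n := by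
      by_contra! h
      exact hz (by rw [← Ideal.mem_bot, ← hbot, Ideal.mem_iInf]; exact h)
    classical
    obtain ⟨n, hn⟩ : ∃ n, Nat.find hex = n + 1 := Nat.exists_eq_succ_of_ne_zero fun h => by
      have := Nat.find_spec hex
      rw [h, pow_zero, Ideal.one_eq_top] at this
      exact this trivial
    have h1 : z ∈ IsLocalRing.maximalIdeal L ^ n := by
      by_contra h
      have := Nat.find_min' hex h; omega
    have h2 := Nat.find_spec hex
    rw [hn, hm, Ideal.span_singleton_pow, Ideal.mem_span_singleton] at h2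
    rw [hm, Ideal.span_singleton_pow, Ideal.mem_span_singleton] at h1
    obtain ⟨u, rfl⟩ := h1
    refine ⟨n, u, ?_, rfl⟩
    by_contra hu
    have : u ∈ IsLocalRing.maximalIdeal L := hu
    rw [hm, Ideal.mem_span_singleton] at this
    exact h2 (by rw [pow_succ]; exact mul_dvd_mul_left _ this)
  have hdom : IsDomain L := by
    haveI : NoZeroDivisors L := ⟨fun {x y} hxy => by
      by_contra! h
      obtain ⟨n, u, hu, rfl⟩ := hfac x h.1
      obtain ⟨n', u', hu', rfl⟩ := hfac y h.2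
      refine hnil ⟨n + n', (hu.mul hu').mul_left_eq_zero.1 ?_⟩
      rw [← hxy, pow_add]; ring⟩
    exact NoZeroDivisors.to_isDomain L
  refine ⟨hdom, IsPrincipalIdealRing.of_prime fun P hP => ?_⟩
  by_cases h0 : P = ⊥
  · exact ⟨0, by simp [h0]⟩
  obtain ⟨z, hzP, hz0⟩ := Submodule.exists_mem_ne_zero_of_ne_bot h0
  obtain ⟨n, u, hu, rfl⟩ := hfac z hz0
  have htP : t ∈ P := by
    rcases hP.mem_or_mem hzP with h | h
    · exact hP.mem_of_pow_mem _ h
    · exact absurd (Ideal.eq_top_of_isUnit_mem _ h hu) hP.ne_top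
  refine ⟨t, le_antisymm ?_ ((Ideal.span_singleton_le_iff_mem P).2 htP)⟩
  show P ≤ Ideal.span {t}
  rw [← hm]
  exact IsLocalRing.le_maximalIdeal hP.ne_top

universe w

/-- The local ring of the hypersurface `g = 0` at a point. -/
theorem exists_local {R : Type w} [CommRing R] [IsDomain R] [IsNoetherianRing R] (P : Ideal R) [P.IsMaximal]
    {g : R} (hg : g ∈ P) :
    ∃ (L : Type w) (_ : CommRing L) (_ : IsLocalRing L) (_ : IsNoetherianRing L) (l : R →+* L),
      (∀ f, IsUnit (l f) ↔ f ∉ P) ∧ (∀ f, l f = 0 → ∃ v, v ∉ P ∧ g ∣ v * f) ∧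
      IsLocalRing.maximalIdeal L = Ideal.map l P ∧ l g = 0 ∧ (∀ c, ∃ r u, u ∉ P ∧ c * l u = l r) := by
  let J : Ideal (Localization.AtPrime P) := Ideal.span {algebraMap R (Localization.AtPrime P) g}
  have hJ : J ≤ IsLocalRing.maximalIdeal (Localization.AtPrime P) := (Ideal.span_singleton_le_iff_mem _).2
    ((IsLocalization.AtPrime.to_map_mem_maximal_iff _ P g).2 hg)
  have hne := (IsLocalRing.maximalIdeal.isMaximal (Localization.AtPrime P)).ne_top
  haveI : Nontrivial (Localization.AtPrime P ⧸ J) :=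
    Ideal.Quotient.nontrivial_iff.2 fun h => hne (top_le_iff.1 (h ▸ hJ))
  haveI : IsLocalRing (Localization.AtPrime P ⧸ J) :=
    IsLocalRing.of_surjective' (Ideal.Quotient.mk J) Ideal.Quotient.mk_surjective
  haveI : IsNoetherianRing (Localization.AtPrime P) :=
    IsLocalization.isNoetherianRing P.primeCompl _ inferInstance
  haveI : IsLocalHom (Ideal.Quotient.mk J) :=
    IsLocalHom.of_surjective (Ideal.Quotient.mk J) Ideal.Quotient.mk_surjective
  refine ⟨Localization.AtPrime P ⧸ J, inferInstance, inferInstance, Ideal.Quotient.isNoetherianRing J,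
    (Ideal.Quotient.mk J).comp (algebraMap R _), fun f => ?_, fun f hf => ?_, ?_,
    Ideal.Quotient.eq_zero_iff_mem.2 (Ideal.mem_span_singleton_self _), fun c => ?_⟩
  · refine Iff.trans ?_ (IsLocalization.AtPrime.isUnit_to_map_iff (Localization.AtPrime P) P f)
    exact ⟨fun h => isUnit_of_map_unit (Ideal.Quotient.mk J) _ h, fun h => h.map (Ideal.Quotient.mk J)⟩
  · obtain ⟨c, hc⟩ := Ideal.mem_span_singleton.1 (Ideal.Quotient.eq_zero_iff_mem.1 hf)
    obtain ⟨⟨c₁, v⟩, hv⟩ := IsLocalization.surj P.primeCompl c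
    refine ⟨v, v.2, c₁, IsLocalization.injective (Localization.AtPrime P) P.primeCompl_le_nonZeroDivisors ?_⟩
    rw [map_mul, map_mul, hc, ← hv]
    ring
  · rw [← Ideal.map_map, Localization.AtPrime.map_eq_maximalIdeal]
    refine (IsLocalRing.eq_maximalIdeal ((Ideal.map_eq_top_or_isMaximal_of_surjective (Ideal.Quotient.mk J)
      Ideal.Quotient.mk_surjective (IsLocalRing.maximalIdeal.isMaximal _)).resolve_left fun h => ?_)).symm
    have h1 := congrArg (Ideal.comap (Ideal.Quotient.mk J)) h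
    rw [Ideal.comap_map_of_surjective _ Ideal.Quotient.mk_surjective, ← RingHom.ker_eq_comap_bot,
      Ideal.mk_ker, sup_eq_left.2 hJ, Ideal.comap_top] at h1
    exact hne h1
  · obtain ⟨c', rfl⟩ := Ideal.Quotient.mk_surjective c
    obtain ⟨⟨r, u⟩, hu⟩ := IsLocalization.surj P.primeCompl c'
    exact ⟨r, u, u.2, by rw [RingHom.comp_apply, RingHom.comp_apply, ← map_mul, hu]⟩

variable {G : (k[X])[X]} {φ : k[X] →+* K} {x : K}

/-- Integral elements are polynomials in `x` once a power of `y` is allowed. -/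
theorem Setup.exists_pow_mul_eq [IsAlgClosed k] (S : Setup G φ x) (hsm : SmoothOff G) {z : K}
    (hz : φ.IsIntegralElem z) :
    ∃ (N : ℕ) (p : (k[X])[X]), φ X ^ N * z = p.eval₂ φ x := by
  let ev : (k[X])[X] →+* K := eval₂RingHom φ x
  let I : Ideal (k[X])[X] :=
    { carrier := {c | ∃ p, ev c * z = ev p}
      add_mem' := fun {c c'} ⟨p, hp⟩ ⟨p', hp'⟩ => ⟨p + p', by rw [map_add, map_add, add_mul, hp, hp']⟩
      zero_mem' := ⟨0, by simp⟩
      smul_mem' := fun r c ⟨p, hp⟩ => ⟨r * p, by rw [smul_eq_mul, map_mul, map_mul, mul_assoc, hp]⟩ }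
  by_cases hrad : (C X : (k[X])[X]) ∈ I.radical
  · obtain ⟨N, p, hp⟩ := hrad
    refine ⟨N, p, ?_⟩
    simpa [ev, eval₂_pow] using hp
  exfalso
  rw [Ideal.radical_eq_jacobson, Ideal.jacobson, Ideal.mem_sInf] at hrad
  push Not at hrad
  obtain ⟨M, ⟨hIM, hM⟩, hXM⟩ := hrad
  obtain ⟨a, b, rfl⟩ := exists_maximal_pt M hM
  have hb : b ≠ 0 := fun h => hXM (by simp [RingHom.mem_ker, evPt, h])
  have hG0 : evPt a b G = 0 := hIM ⟨0, by simp [ev, S.root]⟩
  obtain ⟨s, hs0, p, hp⟩ := S.span z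
  have hsM : evPt a b (C s) = 0 := hIM ⟨p, by simpa [ev] using hp⟩
  obtain ⟨A, B, hGd, hA, hB⟩ := exists_decomp a b G hG0
  -- the local ring of the curve
  haveI := hM
  obtain ⟨L, iL, iloc, inoe, l, hl', hl0', hmax, hlG, hsurj⟩ :=
    exists_local (RingHom.ker (evPt a b)) (g := G) hG0
  have hl : ∀ f, IsUnit (l f) ↔ evPt a b f ≠ 0 := fun f => hl' f
  have hl0 : ∀ f, l f = 0 → ∃ v, evPt a b v ≠ 0 ∧ ev v * ev f = 0 := fun f hf => by
    obtain ⟨v, hv, g, hg⟩ := hl0' f hf
    exact ⟨v, hv, by rw [← map_mul, hg, map_mul, show ev G = 0 from S.root, zero_mul]⟩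
  have hnil : ∀ n : ℕ, l (C s) ^ n ≠ 0 := fun n h => by
    rw [← map_pow] at h
    obtain ⟨v, hv, hvf⟩ := hl0 _ h
    rw [map_pow, show ev (C s) = φ s from eval₂_C _ _, ((S.unit s hs0).pow n).mul_left_eq_zero] at hvf
    obtain ⟨g, rfl⟩ := S.dvd_of_eval (show v.eval₂ φ x = 0 from hvf)
    exact hv (by rw [map_mul, hG0, zero_mul])
  have hker : RingHom.ker (evPt a b) = Ideal.span ({X - C (C a), C (X - C b)} : Set (k[X])[X]) := by
    refine le_antisymm (fun f hf => ?_) (Ideal.span_le.2 ?_)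
    · have h := sub_evPt_mem a b f
      rw [show evPt a b f = 0 from hf, map_zero, map_zero, sub_zero] at h
      exact h
    · rintro _ (rfl | rfl) <;> simp [evPt]
  have hrel : l (X - C (C a)) * l A + l (C (X - C b)) * l B = 0 := by
    rw [← map_mul, ← map_mul, ← map_add, ← hGd, hlG]
  obtain ⟨t, ht⟩ : ∃ t, IsLocalRing.maximalIdeal L = Ideal.span {t} := by
    rw [hmax, hker, Ideal.map_span, Set.image_pair]
    rcases hsm a b hb hG0 with h | h
    · refine ⟨l (C (X - C b)), Ideal.span_pair_eq_span_right_iff_dvd.2 ?_⟩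
      have hu := (hl A).2 (hA ▸ h)
      exact (hu.dvd_mul_right).1 ⟨-l B, by linear_combination hrel⟩
    · refine ⟨l (X - C (C a)), Ideal.span_pair_eq_span_left_iff_dvd.2 ?_⟩
      have hu := (hl B).2 (hB ▸ h)
      exact (hu.dvd_mul_right).1 ⟨-l A, by linear_combination hrel⟩
  have htnil : ¬ IsNilpotent t := fun ⟨n, hn⟩ => by
    have hmem : l (C s) ∈ IsLocalRing.maximalIdeal L := fun hu => (hl _).1 hu hsM
    rw [ht, Ideal.mem_span_singleton] at hmem
    obtain ⟨c, hc⟩ := hmem
    exact hnil n (by rw [hc, mul_pow, hn, zero_mul])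
  obtain ⟨_, _⟩ := isDomain_of_principal ht htnil
  have hls : l (C s) ≠ 0 := by simpa using hnil 1
  obtain ⟨P, hPm, hP⟩ := hz
  have hPs : (P.scaleRoots s).eval₂ φ (p.eval₂ φ x) = 0 := by
    rw [← hp]; exact scaleRoots_eval₂_eq_zero φ hP
  have hroot : ev ((P.scaleRoots s).eval₂ C p) = 0 := by
    rw [hom_eval₂, show ev.comp C = φ from RingHom.ext fun c => eval₂_C _ _]
    exact hPs
  let F := FractionRing L
  have hintF : IsIntegral L (algebraMap L F (l p) / algebraMap L F (l (C s))) := by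
    refine ⟨P.map (l.comp C), hPm.map _, ?_⟩
    obtain ⟨g, hg⟩ := S.dvd_of_eval hroot
    have h0 : (P.scaleRoots s).eval₂ ((algebraMap L F).comp (l.comp C))
        (algebraMap L F (l (C s)) * (algebraMap L F (l p) / algebraMap L F (l (C s)))) = 0 := by
      rw [mul_div_cancel₀ _ ((map_ne_zero_iff _ (IsFractionRing.injective L F)).2 hls)]
      have : algebraMap L F (l ((P.scaleRoots s).eval₂ C p)) = 0 := by
        rw [hg, map_mul, hlG, zero_mul, map_zero]
      rw [hom_eval₂, hom_eval₂] at this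
      simpa [RingHom.comp_assoc] using this
    rw [show algebraMap L F (l (C s)) = ((algebraMap L F).comp (l.comp C)) s from rfl,
      scaleRoots_eval₂_mul] at h0
    rw [eval₂_map]
    rcases mul_eq_zero.1 h0 with h | h
    · exact absurd h (pow_ne_zero _ ((map_ne_zero_iff _ (IsFractionRing.injective L F)).2 hls))
    · exact h
  obtain ⟨c, hc⟩ := IsIntegrallyClosed.algebraMap_eq_of_integral hintF
  rw [eq_div_iff ((map_ne_zero_iff _ (IsFractionRing.injective L F)).2 hls), ← map_mul] at hc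
  have hc' := IsFractionRing.injective L F hc
  obtain ⟨c₂, u₂, hu, hcu⟩ := hsurj c
  have hz0 : l (u₂ * p - C s * c₂) = 0 := by
    rw [map_sub, map_mul, map_mul, ← hc', ← hcu]
    ring
  obtain ⟨v, hv, hvf⟩ := hl0 _ hz0
  refine mul_ne_zero hv (show evPt a b u₂ ≠ 0 from hu) (?_ : evPt a b v * evPt a b u₂ = 0)
  rw [← map_mul]
  refine hIM ⟨v * c₂, ?_⟩
  refine ((S.unit s hs0).mul_right_inj).1 ?_
  rw [show φ s * (ev (v * u₂) * z) = ev (v * u₂) * (φ s * z) by ring, hp]
  show ev (v * u₂) * ev p = φ s * ev (v * c₂)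
  rw [show φ s = ev (C s) from (eval₂_C _ _).symm]
  simp only [map_mul, map_sub] at hvf ⊢
  linear_combination hvf

end Groth.Agent.CurvFam16.Gonal
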