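import Groth.Agent.CurvFam16.Gonal.Lattice
import Mathlib.RingTheory.AdicCompletion.Completeness
import Mathlib.RingTheory.Henselian
import Mathlib.FieldTheory.Separable
import Mathlib.FieldTheory.IsAlgClosed.Basic

/-! Branches at `y = 0` from the initial forms. -/

set_option linter.style.haveILetI false
set_option backward.isDefEq.respectTransparency false

namespace Groth.Agent.CurvFam16.Gonal

open Polynomial

variable {k : Type*} [Field k]

/-- The fibre over `y = 0`. -/
noncomputable def fib (G : (k[X])[X]) : k[X] := G.map (evalRingHom (0 : k))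

/-- The conditions at a corner of height `r`. -/
def Corner (G : (k[X])[X]) (r : ℕ) : Prop :=
  ∃ c b : k[X], G.coeff 0 = X ^ (2 * r) * c ∧ G.coeff 1 = X ^ r * b ∧ c.eval 0 ≠ 0 ∧
    (fib G).divX.divX.Separable ∧ (G.coeff 2).eval 0 ≠ 0 ∧
    (C (c.eval 0) * X ^ 2 + C (b.eval 0) * X + C ((G.coeff 2).eval 0)).Separable

/-- Nondegenerate initial forms at `y = 0`. -/
structure Edge (G : (k[X])[X]) (r : ℕ) : Prop where
  two : 2 ≤ G.natDegree
  lead : G.leadingCoeff.eval 0 ≠ 0
  zero : r = 0 → (fib G).Separable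
  corner : 0 < r → Corner G r

theorem henselian_series : HenselianRing (PowerSeries k) (Ideal.span {PowerSeries.X}) := inferInstance

theorem unit_of_const {u : PowerSeries k} (h : PowerSeries.constantCoeff u ≠ 0) : IsUnit u :=
  PowerSeries.isUnit_iff_constantCoeff.2 (isUnit_iff_ne_zero.2 h)

/-- A simple root of the constant part lifts. -/
theorem exists_root_lift (P : (PowerSeries k)[X]) (hlead : PowerSeries.constantCoeff P.leadingCoeff ≠ 0) (a : k)
    (h0 : (P.map PowerSeries.constantCoeff).eval a = 0)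
    (h1 : (derivative (P.map PowerSeries.constantCoeff)).eval a ≠ 0) :
    ∃ ρ : PowerSeries k, P.eval ρ = 0 ∧ PowerSeries.constantCoeff ρ = a := by
  obtain ⟨u, hu⟩ := unit_of_const hlead
  let Q := C (↑u⁻¹ : PowerSeries k) * P
  have hP : P ≠ 0 := fun h => hlead (by simp [h])
  have hQm : Q.Monic := by
    show Q.leadingCoeff = 1
    rw [leadingCoeff_mul' (by rw [leadingCoeff_C]; exact mul_ne_zero (Units.ne_zero _) (leadingCoeff_ne_zero.2 hP)),
      leadingCoeff_C, ← hu, Units.inv_mul]
  have hcc : ∀ F : (PowerSeries k)[X], PowerSeries.constantCoeff (F.eval (PowerSeries.C a)) =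
      (F.map PowerSeries.constantCoeff).eval a := fun F => by
    rw [eval_map, eval, hom_eval₂, RingHom.comp_id, PowerSeries.constantCoeff_C]
  haveI := henselian_series (k := k)
  obtain ⟨ρ, hρ, hρa⟩ := HenselianRing.is_henselian (R := PowerSeries k) (I := Ideal.span {PowerSeries.X}) Q hQm
    (PowerSeries.C a) (by
      rw [Ideal.mem_span_singleton, PowerSeries.X_dvd_iff, hcc, Polynomial.map_mul, eval_mul, h0, mul_zero])
    (by
      refine (unit_of_const ?_).map (Ideal.Quotient.mk _)
      rw [hcc, derivative_C_mul, Polynomial.map_mul, eval_mul, map_C, eval_C, ← derivative_map]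
      exact mul_ne_zero ((u⁻¹).isUnit.map PowerSeries.constantCoeff).ne_zero h1)
  refine ⟨ρ, ?_, ?_⟩
  · have : (↑u⁻¹ : PowerSeries k) * P.eval ρ = 0 := by
      rw [← eval_C (a := (↑u⁻¹ : PowerSeries k)) (x := ρ), ← eval_mul]; exact hρ
    exact (u⁻¹).isUnit.mul_right_eq_zero.1 this
  · rw [Ideal.mem_span_singleton, PowerSeries.X_dvd_iff, map_sub, PowerSeries.constantCoeff_C, sub_eq_zero] at hρa
    exact hρa

theorem const_comp : (PowerSeries.constantCoeff).comp (Polynomial.coeToPowerSeries.ringHom) =
    (evalRingHom (0 : k)) := by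
  ext a <;> simp

theorem const_eval₂ (p : (k[X])[X]) (ρ : PowerSeries k) :
    PowerSeries.constantCoeff (p.eval₂ Polynomial.coeToPowerSeries.ringHom ρ) =
      (fib p).eval (PowerSeries.constantCoeff ρ) := by
  rw [hom_eval₂, const_comp, fib, eval_map]

theorem exists_root_of_fib (G : (k[X])[X]) (hlead : G.leadingCoeff.eval 0 ≠ 0) (a : k)
    (h0 : (fib G).eval a = 0) (h1 : (derivative (fib G)).eval a ≠ 0) :
    ∃ ρ : PowerSeries k, G.eval₂ Polynomial.coeToPowerSeries.ringHom ρ = 0 ∧
      PowerSeries.constantCoeff ρ = a := by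
  have hmap : (G.map Polynomial.coeToPowerSeries.ringHom).map PowerSeries.constantCoeff = fib G := by
    rw [Polynomial.map_map, const_comp, fib]
  have hinj : Function.Injective (Polynomial.coeToPowerSeries.ringHom : k[X] →+* PowerSeries k) :=
    fun a b h => Polynomial.coe_injective k h
  obtain ⟨ρ, h, h'⟩ := exists_root_lift (G.map Polynomial.coeToPowerSeries.ringHom) (by
    rw [leadingCoeff_map_of_injective hinj, show Polynomial.coeToPowerSeries.ringHom G.leadingCoeff =
      ((G.leadingCoeff : k[X]) : PowerSeries k) from rfl, Polynomial.constantCoeff_coe,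
      coeff_zero_eq_eval_zero]
    exact hlead) a (by rwa [hmap]) (by rwa [hmap])
  exact ⟨ρ, by rwa [eval_map] at h, h'⟩

theorem natDegree_fib {G : (k[X])[X]} (hlead : G.leadingCoeff.eval 0 ≠ 0) :
    (fib G).natDegree = G.natDegree := natDegree_map_of_leadingCoeff_ne_zero _ hlead

variable [IsAlgClosed k]

theorem exists_roots {p : k[X]} (hp : p.Separable) :
    ∃ a : ℕ → k, (∀ j < p.natDegree, p.eval (a j) = 0 ∧ (derivative p).eval (a j) ≠ 0) ∧
      ∀ i < p.natDegree, ∀ j < p.natDegree, a i = a j → i = j := by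
  classical
  have hne : p ≠ 0 := hp.ne_zero
  have hcard : p.roots.toFinset.card = p.natDegree := by
    rw [Multiset.toFinset_card_of_nodup (nodup_roots hp)]
    exact (IsAlgClosed.splits p).natDegree_eq_card_roots.symm
  let e := (p.roots.toFinset.equivFinOfCardEq hcard).symm
  refine ⟨fun j => if h : j < p.natDegree then (e ⟨j, h⟩ : k) else 0, fun j hj => ?_, fun i hi j hj h => ?_⟩
  · simp only [dif_pos hj]
    have hr : IsRoot p (e ⟨j, hj⟩ : k) := (mem_roots hne).1 (Multiset.mem_toFinset.1 (e ⟨j, hj⟩).2)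
    refine ⟨hr, fun hd => ?_⟩
    obtain ⟨u, v, huv⟩ := hp
    have := congrArg (eval (e ⟨j, hj⟩ : k)) huv
    rw [eval_add, eval_mul, eval_mul, hr.eq_zero, hd, mul_zero, mul_zero, add_zero, eval_one] at this
    exact zero_ne_one this
  · simp only [dif_pos hi, dif_pos hj] at h
    exact congrArg Fin.val (e.injective (Subtype.ext h))

omit [IsAlgClosed k] in
theorem fib_theta_coeff (G : (k[X])[X]) {i : ℕ} (hi : i ≠ 0) :
    (fib (thetaPoly G i)).coeff i = G.leadingCoeff.eval 0 ∧ (fib (thetaPoly G i)).eval 0 = 0 ∧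
      (fib (thetaPoly G i)).natDegree ≤ i := by
  refine ⟨?_, ?_, natDegree_map_le.trans (thetaPoly_natDegree_le G i)⟩
  · rw [fib, coeff_map, thetaPoly_coeff_top G hi, coe_evalRingHom]
  · rw [← coeff_zero_eq_eval_zero, fib, coeff_map, thetaPoly, if_neg hi, finsetSum_coeff,
      Finset.sum_eq_zero fun a ha => ?_, map_zero]
    rw [Finset.mem_range] at ha
    rw [coeff_C_mul_X_pow, if_neg (by omega)]

omit [IsAlgClosed k] in
/-- Triangularity of the `θ_i` on the fibre. -/
theorem theta_vanish (G : (k[X])[X]) (hlead : G.leadingCoeff.eval 0 ≠ 0) (M : ℕ) (v : ℕ → k)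
    (h : ∑ i ∈ Finset.range (M + 1), C (v i) * fib (thetaPoly G i) = 0) : ∀ i ≤ M, v i = 0 := by
  classical
  by_contra! hne
  obtain ⟨i₁, hi₁, hne₁⟩ := hne
  let s := (Finset.range (M + 1)).filter fun i => v i ≠ 0
  have hs : s.Nonempty := ⟨i₁, Finset.mem_filter.2 ⟨Finset.mem_range.2 (by omega), hne₁⟩⟩
  obtain ⟨hi, hci⟩ := Finset.mem_filter.1 (s.max'_mem hs)
  have hcoeff := congrArg (fun p : k[X] => p.coeff (s.max' hs)) h
  simp only [finsetSum_coeff, coeff_zero, coeff_C_mul] at hcoeff
  rw [Finset.sum_eq_single_of_mem _ hi fun j hj hjne => ?_] at hcoeff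
  · rcases eq_or_ne (s.max' hs) 0 with h0 | h0
    · rw [h0] at hcoeff hci
      simp [fib, thetaPoly] at hcoeff
      exact hci hcoeff
    · rw [(fib_theta_coeff G h0).1, mul_eq_zero] at hcoeff
      exact hci (hcoeff.resolve_right hlead)
  · by_cases hcj : v j = 0
    · rw [hcj, zero_mul]
    · rw [coeff_eq_zero_of_natDegree_lt (p := fib (thetaPoly G j))
        (lt_of_le_of_lt (natDegree_map_le.trans (thetaPoly_natDegree_le G j))
        (lt_of_le_of_ne (s.le_max' j (Finset.mem_filter.2 ⟨hj, hcj⟩)) hjne)), mul_zero]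

omit [IsAlgClosed k] in
theorem sum_fib_eval (G : (k[X])[X]) (M : ℕ) (v : ℕ → k) (a : k) :
    (∑ i ∈ Finset.range M, C (v i) * fib (thetaPoly G i)).eval a =
      ∑ i ∈ Finset.range M, v i * (fib (thetaPoly G i)).eval a := by
  simp [eval_finsetSum]

theorem branches_zero {G : (k[X])[X]} (H : Edge G 0) : Branches G 0 := by
  obtain ⟨a, ha, hinj⟩ := exists_roots (H.zero rfl)
  rw [natDegree_fib H.lead] at ha hinj
  have hρ : ∀ j, ∃ ρ : PowerSeries k, j < G.natDegree →
      G.eval₂ Polynomial.coeToPowerSeries.ringHom ρ = 0 ∧ PowerSeries.constantCoeff ρ = a j := fun j => by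
    by_cases hj : j < G.natDegree
    · obtain ⟨ρ, h⟩ := exists_root_of_fib G H.lead (a j) (ha j hj).1 (ha j hj).2
      exact ⟨ρ, fun _ => h⟩
    · exact ⟨0, fun h => absurd h hj⟩
  choose ρ hρ using hρ
  refine ⟨ρ, fun i j => (thetaPoly G i).eval₂ Polynomial.coeToPowerSeries.ringHom (ρ j),
    fun j hj => (hρ j hj).1, fun i _ j _ => by simp [eps], fun v hv i hi => ?_⟩
  have hm := H.two
  refine theta_vanish G H.lead (G.natDegree - 1) v ?_ i (by omega)
  rw [show G.natDegree - 1 + 1 = G.natDegree by omega]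
  refine eq_zero_of_natDegree_lt_card_of_eval_eq_zero _ (f := fun j : Fin G.natDegree => a j)
    (fun p q h => Fin.ext (hinj _ p.2 _ q.2 h)) (fun j => ?_) ?_
  · rw [sum_fib_eval, ← hv j j.2]
    exact Finset.sum_congr rfl fun i _ => by rw [const_eval₂, (hρ j j.2).2]
  · rw [Fintype.card_fin]
    refine lt_of_le_of_lt (natDegree_sum_le_of_forall_le (n := G.natDegree - 1) _ _ fun i hi => ?_) (by omega)
    rw [Finset.mem_range] at hi
    exact (natDegree_C_mul_le _ _).trans ((natDegree_map_le.trans (thetaPoly_natDegree_le G i)).trans (by omega))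

omit [IsAlgClosed k] in
theorem theta_last (G : (k[X])[X]) (hm : 2 ≤ G.natDegree) :
    thetaPoly G (G.natDegree - 1) * X + C (G.coeff 1) * X + C (G.coeff 0) = G := by
  have h := thetaPoly_tail (G := G) (j := G.natDegree - 1) (by omega) (by omega)
  rw [show G.natDegree - (G.natDegree - 1) = 1 by omega, Finset.sum_range_succ, Finset.sum_range_one] at h
  conv_rhs => rw [← h]
  ring

theorem branches_corner {G : (k[X])[X]} {r : ℕ} (hr : 0 < r) (H : Edge G r) : Branches G r := by
  obtain ⟨c, b, hc, hb, hc0, hsep, hq0, hquad⟩ := H.corner hr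
  have hm := H.two
  let ι : k[X] →+* PowerSeries k := Polynomial.coeToPowerSeries.ringHom
  have hfib0 : (fib G).coeff 0 = 0 := by
    rw [fib, coeff_map, hc, coe_evalRingHom, eval_mul, eval_pow, eval_X, zero_pow (by omega), zero_mul]
  have hfib1 : (fib G).coeff 1 = 0 := by
    rw [fib, coeff_map, hb, coe_evalRingHom, eval_mul, eval_pow, eval_X, zero_pow (by omega), zero_mul]
  have hsplit : fib G = X ^ 2 * (fib G).divX.divX := by
    have h1 := X_mul_divX_add (fib G)
    have h2 := X_mul_divX_add (fib G).divX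
    rw [hfib0, C_0, add_zero] at h1
    rw [coeff_divX, zero_add, hfib1, C_0, add_zero] at h2
    conv_lhs => rw [← h1, ← h2]
    ring
  have hq : (fib G).divX.divX.coeff 0 = (G.coeff 2).eval 0 := by
    simp [coeff_divX, fib, coeff_map]
  have hdQ : (fib G).divX.divX.natDegree = G.natDegree - 2 := by
    rw [natDegree_divX_eq_natDegree_tsub_one, natDegree_divX_eq_natDegree_tsub_one, natDegree_fib H.lead]
    omega
  obtain ⟨a, ha, hainj⟩ := exists_roots hsep
  rw [hdQ] at ha hainj
  have ha0 : ∀ j < G.natDegree - 2, a j ≠ 0 := fun j hj h => hq0 (by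
    have h' := (ha j hj).1
    rwa [h, ← coeff_zero_eq_eval_zero, hq] at h')
  -- the blown-up form, reversed
  let g : ℕ → PowerSeries k := fun i =>
    if i = 0 then ι c else if i = 1 then ι b else ι (G.coeff i) * PowerSeries.X ^ (r * (i - 2))
  let P : (PowerSeries k)[X] := ∑ i ∈ Finset.range (G.natDegree + 1), C (g i) * X ^ (G.natDegree - i)
  have hPco : ∀ l ≤ G.natDegree, P.coeff l = g (G.natDegree - l) := fun l hl => by
    rw [finsetSum_coeff, Finset.sum_eq_single_of_mem (G.natDegree - l) (Finset.mem_range.2 (by omega))]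
    · rw [coeff_C_mul_X_pow, if_pos (by omega)]
    · intro i hi hne
      rw [Finset.mem_range] at hi
      rw [coeff_C_mul_X_pow, if_neg (by omega)]
  have hιc : PowerSeries.constantCoeff (ι c) = c.eval 0 := congrFun (congrArg DFunLike.coe const_comp) c
  have hPdeg : P.natDegree = G.natDegree := by
    refine le_antisymm (natDegree_sum_le_of_forall_le _ _ fun i _ =>
      (natDegree_C_mul_X_pow_le _ _).trans (Nat.sub_le _ _)) (le_natDegree_of_ne_zero ?_)
    rw [hPco _ le_rfl, Nat.sub_self]
    intro h
    simp only [g, if_pos] at h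
    rw [h, map_zero] at hιc
    exact hc0 hιc.symm
  have hquadeq : P.map PowerSeries.constantCoeff = X ^ (G.natDegree - 2) *
      (C (c.eval 0) * X ^ 2 + C (b.eval 0) * X + C ((G.coeff 2).eval 0)) := by
    have hcc : ∀ f, PowerSeries.constantCoeff (ι f) = f.eval 0 := fun f => congrFun (congrArg DFunLike.coe const_comp) f
    rw [Polynomial.map_sum]
    rw [← Finset.sum_range_add_sum_Ico _ (show 3 ≤ G.natDegree + 1 by omega),
      Finset.sum_eq_zero (s := Finset.Ico 3 (G.natDegree + 1)) fun i hi => ?_, add_zero]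
    · simp only [Finset.sum_range_succ, Finset.sum_range_zero, zero_add, Polynomial.map_mul, map_C,
        Polynomial.map_pow, map_X, g]
      norm_num [hcc]
      obtain ⟨n, hn⟩ : ∃ n, G.natDegree = n + 2 := ⟨G.natDegree - 2, by omega⟩
      rw [hn, show n + 2 - 1 = n + 1 by omega, show n + 2 - 2 = n by omega]
      ring
    · rw [Finset.mem_Ico] at hi
      simp only [g, if_neg (show i ≠ 0 by omega), if_neg (show i ≠ 1 by omega), Polynomial.map_mul, map_C]
      rw [map_mul, map_pow, PowerSeries.constantCoeff_X, zero_pow (Nat.mul_ne_zero (by omega) (by omega)),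
        mul_zero, C_0, zero_mul]
  obtain ⟨s, hs, hsinj⟩ := exists_roots hquad
  rw [natDegree_quadratic hc0] at hs hsinj
  have hs0 : ∀ j < 2, s j ≠ 0 := fun j hj h => hq0 (by simpa [h] using (hs j hj).1)
  have hσ : ∀ j, ∃ σ : PowerSeries k, j < 2 → P.eval σ = 0 ∧ PowerSeries.constantCoeff σ = s j := fun j => by
    by_cases hj : j < 2
    · obtain ⟨σ, h⟩ := exists_root_lift P (by
        rw [leadingCoeff, hPdeg, hPco _ le_rfl, Nat.sub_self]
        simpa [g, hιc] using hc0) (s j)
        (by rw [hquadeq, eval_mul, (hs j hj).1, mul_zero]) (by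
        rw [hquadeq, derivative_mul, eval_add, eval_mul, eval_mul, (hs j hj).1, mul_zero, zero_add, eval_pow, eval_X]
        exact mul_ne_zero (pow_ne_zero _ (hs0 j hj)) (hs j hj).2)
      exact ⟨σ, fun _ => h⟩
    · exact ⟨0, fun h => absurd h hj⟩
  choose σ hσ using hσ
  have hμ : ∀ j, ∃ μ : PowerSeries k, j < G.natDegree - 2 →
      G.eval₂ ι μ = 0 ∧ PowerSeries.constantCoeff μ = a j := fun j => by
    by_cases hj : j < G.natDegree - 2
    · obtain ⟨μ, h⟩ := exists_root_of_fib G H.lead (a j) (by rw [hsplit, eval_mul, (ha j hj).1, mul_zero]) (by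
        rw [hsplit, derivative_mul, eval_add, eval_mul, eval_mul, (ha j hj).1, mul_zero, zero_add, eval_pow, eval_X]
        exact mul_ne_zero (pow_ne_zero _ (ha0 j hj)) (ha j hj).2)
      exact ⟨μ, fun _ => h⟩
    · exact ⟨0, fun h => absurd h hj⟩
  choose μ hμ using hμ
  have hσu : ∀ j < 2, σ j * (σ j)⁻¹ = 1 := fun j hj =>
    PowerSeries.mul_inv_cancel _ (by rw [(hσ j hj).2]; exact hs0 j hj)
  have hμu : ∀ j < G.natDegree - 2, μ j * (μ j)⁻¹ = 1 := fun j hj =>
    PowerSeries.mul_inv_cancel _ (by rw [(hμ j hj).2]; exact ha0 j hj)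
  let ρ : ℕ → PowerSeries k := fun j => if j < 2 then PowerSeries.X ^ r * (σ j)⁻¹ else μ (j - 2)
  let W : ℕ → ℕ → PowerSeries k := fun i j =>
    if i + 1 = G.natDegree then
      (if j < 2 then -(ι b) - ι c * σ j else -(ι b) - PowerSeries.X ^ r * ι c * (μ (j - 2))⁻¹)
    else (thetaPoly G i).eval₂ ι (ρ j)
  have hroot : ∀ j < G.natDegree, G.eval₂ ι (ρ j) = 0 := fun j hj => by
    by_cases hj2 : j < 2
    · have hu : IsUnit (σ j ^ G.natDegree) :=
        (IsUnit.of_mul_eq_one _ (hσu j hj2)).pow _
      refine hu.mul_left_eq_zero.1 ?_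
      calc G.eval₂ ι (ρ j) * σ j ^ G.natDegree = PowerSeries.X ^ (2 * r) * P.eval (σ j) := by
            rw [eval₂_eq_sum_range, Finset.sum_mul, eval_finsetSum, Finset.mul_sum]
            refine Finset.sum_congr rfl fun i hi => ?_
            rw [Finset.mem_range] at hi
            simp only [ρ, if_pos hj2, eval_mul, eval_C, eval_pow, eval_X]
            calc ι (G.coeff i) * (PowerSeries.X ^ r * (σ j)⁻¹) ^ i * σ j ^ G.natDegree
                = ι (G.coeff i) * PowerSeries.X ^ (r * i) * (σ j * (σ j)⁻¹) ^ i * σ j ^ (G.natDegree - i) := by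
                  conv_lhs => rw [show G.natDegree = i + (G.natDegree - i) by omega, pow_add, mul_pow, ← pow_mul]
                  ring
              _ = _ := by
                  rw [hσu j hj2, one_pow, mul_one, ← mul_assoc]
                  congr 1
                  simp only [g]
                  split_ifs with h0 h1
                  · subst h0
                    rw [hc, map_mul, map_pow, show ι X = PowerSeries.X from Polynomial.coe_X]; ring
                  · subst h1
                    rw [hb, map_mul, map_pow, show ι X = PowerSeries.X from Polynomial.coe_X]; ring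
                  · rw [mul_left_comm, ← pow_add]
                    obtain ⟨n, rfl⟩ : ∃ n, i = n + 2 := ⟨i - 2, by omega⟩
                    rw [show 2 * r + r * (n + 2 - 2) = r * (n + 2) by rw [Nat.add_sub_cancel]; ring]
        _ = 0 := by rw [(hσ j hj2).1, mul_zero]
    · simp only [ρ, if_neg hj2]; exact (hμ _ (by omega)).1
  refine ⟨ρ, W, hroot, fun i hi j hj => ?_, fun v hv => ?_⟩
  · by_cases hlast : i + 1 = G.natDegree
    · have h := congrArg (fun p : (k[X])[X] => p.eval₂ ι (ρ j)) (theta_last G hm)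
      simp only [eval₂_add, eval₂_mul, eval₂_X, eval₂_C, eval₂_pow, hroot j hj, show G.natDegree - 1 = i by omega, hc, hb,
        map_mul, map_pow, show ι X = PowerSeries.X from Polynomial.coe_X] at h
      show (thetaPoly G i).eval₂ ι (ρ j) = _
      rw [eps, if_pos hlast]
      by_cases hj2 : j < 2
      · simp only [W, if_pos hlast, if_pos hj2]
        simp only [ρ, if_pos hj2] at h ⊢
        refine mul_right_cancel₀ (b := PowerSeries.X ^ r) (pow_ne_zero _ PowerSeries.X_ne_zero) ?_
        linear_combination (σ j) * h - ((thetaPoly G i).eval₂ ι (PowerSeries.X ^ r * (σ j)⁻¹) *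
          PowerSeries.X ^ r + PowerSeries.X ^ r * PowerSeries.X ^ r * ι b) * hσu j hj2
      · simp only [W, if_pos hlast, if_neg hj2]
        simp only [ρ, if_neg hj2] at h ⊢
        have hu := hμu (j - 2) (by omega)
        linear_combination (μ (j - 2))⁻¹ * h -
          ((thetaPoly G i).eval₂ ι (μ (j - 2)) + PowerSeries.X ^ r * ι b) * hu
    · simp only [W, if_neg hlast, eps]
      show (thetaPoly G i).eval₂ ι (ρ j) = _
      ring
  -- independence of the constant values
  have hcst : ∀ f, PowerSeries.constantCoeff (ι f) = f.eval 0 := fun f => congrFun (congrArg DFunLike.coe const_comp) f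
  obtain ⟨n, hn⟩ : ∃ n, G.natDegree = n + 2 := ⟨G.natDegree - 2, by omega⟩
  have hW : ∀ i < n + 1, ∀ j, PowerSeries.constantCoeff (W i j) =
      (fib (thetaPoly G i)).eval (PowerSeries.constantCoeff (ρ j)) := fun i hi j => by
    simp only [W, if_neg (show ¬ i + 1 = G.natDegree by omega)]
    exact const_eval₂ _ _
  have heq : ∀ j < 2, v 0 + v (n + 1) * (-(b.eval 0) - c.eval 0 * s j) = 0 := fun j hj => by
    refine Eq.trans ?_ (hv j (by omega))
    rw [hn, Finset.sum_range_succ, Finset.sum_eq_single_of_mem 0 (Finset.mem_range.2 (by omega))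
      fun i hi hi0 => ?_]
    · rw [hW 0 (by omega)]
      congr 1
      · simp [thetaPoly, fib]
      · simp only [W, if_pos (show n + 1 + 1 = G.natDegree by omega), if_pos hj]
        rw [map_sub, map_neg, map_mul, hcst, hcst, (hσ j hj).2]
    · rw [Finset.mem_range] at hi
      rw [hW i hi]
      simp only [ρ, if_pos hj]
      rw [map_mul, map_pow, PowerSeries.constantCoeff_X, zero_pow hr.ne', zero_mul,
        (fib_theta_coeff G hi0).2.1, mul_zero]
  have hs01 : s 0 ≠ s 1 := fun h => absurd (hsinj 0 (by omega) 1 (by omega) h) (by omega)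
  have hvl : v (n + 1) = 0 := by
    have h : v (n + 1) * (c.eval 0 * (s 1 - s 0)) = 0 := by
      linear_combination heq 0 (by omega) - heq 1 (by omega)
    exact (mul_eq_zero.1 h).resolve_right (mul_ne_zero hc0 (sub_ne_zero.2 hs01.symm))
  have hv0 : v 0 = 0 := by simpa [hvl] using heq 0 (by omega)
  have hrest : ∀ i ≤ n, v i = 0 := by
    refine theta_vanish G H.lead n v ?_
    refine eq_zero_of_natDegree_lt_card_of_eval_eq_zero _
      (f := fun j : Fin (n + 1) => if (j : ℕ) = n then 0 else a j) (fun p q h => ?_) (fun j => ?_) ?_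
    · simp only at h
      have hp := p.2
      have hq := q.2
      refine Fin.ext ?_
      split_ifs at h with h1 h2 h2
      · omega
      · exact absurd h.symm (ha0 _ (by omega))
      · exact absurd h (ha0 _ (by omega))
      · exact hainj _ (by omega) _ (by omega) h
    · rw [sum_fib_eval]
      have hj' := j.2
      by_cases hjn : (j : ℕ) = n
      · simp only [if_pos hjn]
        refine Finset.sum_eq_zero fun i _ => ?_
        rcases eq_or_ne i 0 with rfl | hi0
        · rw [hv0, zero_mul]
        · rw [(fib_theta_coeff G hi0).2.1, mul_zero]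
      · simp only [if_neg hjn]
        have h := hv (j + 2) (by omega)
        rw [hn, Finset.sum_range_succ, hvl, zero_mul, add_zero] at h
        refine Eq.trans ?_ h
        refine Finset.sum_congr rfl fun i hi => ?_
        rw [Finset.mem_range] at hi
        rw [hW i hi]
        simp only [ρ, if_neg (show ¬ (j : ℕ) + 2 < 2 by omega), Nat.add_sub_cancel]
        rw [(hμ j (by omega)).2]
    · rw [Fintype.card_fin]
      refine lt_of_le_of_lt (natDegree_sum_le_of_forall_le (n := n) _ _ fun i hi => ?_) (by omega)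
      rw [Finset.mem_range] at hi
      exact (natDegree_C_mul_le _ _).trans ((natDegree_map_le.trans (thetaPoly_natDegree_le G i)).trans (by omega))
  intro i hi
  rcases (show i ≤ n ∨ i = n + 1 by omega) with h | rfl
  · exact hrest i h
  · exact hvl

theorem branches {G : (k[X])[X]} {r : ℕ} (H : Edge G r) : Branches G r := by
  rcases Nat.eq_zero_or_pos r with rfl | hr
  · exact branches_zero H
  · exact branches_corner hr H

end Groth.Agent.CurvFam16.Gonal
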