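import Groth.Agent.CurvFam16.Gonal.Model
import Groth.Agent.CurvFam16.CoverOfT
import Groth.Agent.CurvFam16.GenFF.Degree
import Groth.Agent.CurveCohLib.RegularCurve
import Groth.Agent.CurveCohLib.SmoothCurve
import Groth.Agent.S2345
import Groth.Agent.S1619
import Groth.Agent.FFLib.Rational

/-! Smooth proper curves of given genus with a map of given degree to the line. -/

noncomputable section

set_option linter.style.haveILetI false
set_option linter.unusedSectionVars false
set_option backward.isDefEq.respectTransparency false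
set_option backward.isDefEq.respectTransparency.types false

universe u

open CategoryTheory CategoryTheory.Limits AlgebraicGeometry

namespace Groth.Agent.CurvFam16.Gonal

attribute [local instance] GenFF.ffAlg

variable {k : Type u} [Field k]

open scoped IntermediateField in
/-- The data on the function field. -/
def HasCover (k : Type u) [Field k] (K : Type u) [Field K] [Algebra k K] (g d : ℕ) : Prop :=
  FunFld.IsFunctionField k K → FunFld.genus k K = g ∧ ∃ t : K, Transcendental k t ∧ Module.finrank k⟮t⟯ K = d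

open scoped IntermediateField in
theorem ratFunc_cover {K : Type u} [Field K] [Algebra k K] (e : RatFunc k ≃ₐ[k] K) (d : ℕ) (hd : 0 < d) :
    HasCover k K 0 d := by
  intro hK
  have htop : k⟮e RatFunc.X⟯ = (⊤ : IntermediateField k K) := by
    rw [show ({e RatFunc.X} : Set K) = ⇑(e : RatFunc k →ₐ[k] K) '' {RatFunc.X} from (Set.image_singleton).symm,
      ← IntermediateField.adjoin_map, RatFunc.adjoin_X, ← AlgHom.fieldRange_eq_map]
    exact AlgHom.fieldRange_eq_top.2 e.surjective
  obtain ⟨hg, P, hP1, hPX, hPo⟩ := FFLib.genus_eq_zero_of_adjoin hK htop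
  have ht : Transcendental k (e RatFunc.X ^ d) :=
    (FFLib.transcendental_of_ord_ne_zero P (by omega)).pow hd
  refine ⟨hg, e RatFunc.X ^ d, ht, ?_⟩
  have h := FFLib.deg_poles hK.1 ht
  have hpoles : (FFLib.poles (e RatFunc.X ^ d) : FunFld.Divisor k K) = Finsupp.single P (d : ℤ) := by
    classical
    ext Q
    rw [FFLib.poles, Finsupp.mapRange_apply, FFLib.div_apply hK.1, FFLib.ord_pow, Finsupp.single_apply]
    by_cases hQ : P = Q
    · subst hQ; rw [if_pos rfl, hPX]; simp
    · rw [if_neg hQ, max_eq_right]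
      have := hPo Q (Ne.symm hQ)
      have : 0 ≤ (d : ℤ) * Q.ord (e RatFunc.X) := by positivity
      omega
  rw [hpoles, FFLib.Divisor.deg_single, hP1] at h
  push_cast at h
  omega

/-- The smooth proper curve of a function field. -/
theorem exists_curve [IsAlgClosed k] (g d : ℕ) (K : Type u) [Field K] [Algebra k K]
    (hfg : (⊤ : IntermediateField k K).FG) (htr : Algebra.trdeg k K = 1)
    (hcov : ∀ (K' : Type u) [Field K'] [Algebra k K'], Nonempty (K ≃ₐ[k] K') → HasCover k K' g d) :
    ∃ (X : Scheme.{u}) (f : X ⟶ Spec (CommRingCat.of k)), Curve.IsSmoothProperCurve k X f ∧ @Curv2.genus k _ X ⟨f⟩ = g ∧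
      ∃ π : X ⟶ CohB1.ProjSpace 1 k, π ≫ CohB1.ProjSpace.toSpec 1 k = f ∧ Mor2.IsFinLocFreeOfDeg d π := by
  obtain ⟨X, iX, iint, hprop, hnorm, hdim1, e, he⟩ := S2345.result k K hfg htr
  haveI := hprop
  let e' : K ≃ₐ[k] X.functionField := (AlgEquiv.ofRingEquiv (f := e) (fun c => he c) :
    X.functionField ≃ₐ[k] K).symm
  have htr' : Algebra.trdeg k X.functionField = 1 := e'.trdeg_eq ▸ htr
  have hdim : topologicalKrullDim X = 1 := by
    letI := Curv2.resAlgebra k X (genericPoint X)
    have hb : Function.Bijective (X.residue (genericPoint X)).hom :=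
      ⟨(X.residue (genericPoint X)).hom.injective, X.residue_surjective (genericPoint X)⟩
    let r : X.functionField ≃ₐ[k] X.residueField (genericPoint X) :=
      AlgEquiv.ofRingEquiv (f := RingEquiv.ofBijective _ hb) fun _ => rfl
    have h3 : Algebra.trdeg k (X.residueField (genericPoint X)) = ((1 : ℕ) : Cardinal) := by
      rw [Nat.cast_one, ← r.trdeg_eq, htr']
    exact_mod_cast S1619.result k X 1 h3
  haveI : Smooth (X ↘ Spec (CommRingCat.of k)) := by
    refine CurveCohLib.RegularCurve.smooth_of_regular k fun x hx => ?_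
    haveI := (hnorm x).1
    haveI := (hnorm x).2
    haveI := CurveCohLib.isNoetherian_of_proper (k := k) (X := X)
    haveI : IsDiscreteValuationRing (X.presheaf.stalk x) := CurveEmbed.isDVR_of_normal k hdim hx (hnorm x).2
    infer_instance
  have h0 : Module.finrank k (Coh.HH X (Coh.structureModule X) 0) = 1 := CurveCohLib.finrank_h0_eq_one k X
  have hK := GenFF.isFunctionField k X hdim h0
  obtain ⟨hg, t, ht, hdeg⟩ := hcov X.functionField ⟨e'⟩ hK
  obtain ⟨π, hπ, hfin, hflat, hlfp, hrk⟩ := CoverOfT.exists_cover_insep hdim ht d hdeg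
  exact ⟨X, X ↘ Spec (CommRingCat.of k), ⟨hprop, inferInstance, iint, hdim⟩,
    (GenFF.genus_eq k hdim h0).symm.trans hg, π, hπ, ⟨hfin, hflat, hlfp⟩, hrk⟩

end Groth.Agent.CurvFam16.Gonal
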