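import Groth.Agent.CurvFam16.Gonal.Infinity
import Groth.Agent.FFLib.RR
import Groth.Agent.FFLib.Riemann
import Groth.Agent.FFLib.Rational
import Mathlib.RingTheory.Valuation.LocalSubring
import Mathlib.Algebra.Polynomial.Bivariate
import Mathlib.RingTheory.AdjoinRoot

/-! The function field of a binary form, its genus and the degree over `k(x)`. -/

set_option linter.style.haveILetI false
set_option backward.isDefEq.respectTransparency false

namespace Groth.Agent.CurvFam16.Gonal

open Polynomial FunFld WithZero IntermediateField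
open scoped IntermediateField
open Groth.Agent.FFLib

variable {k K : Type*} [Field k] [Field K] [Algebra k K] {G : (k[X])[X]} {φ : k[X] →+* K} {x : K}
  {d r r' : ℕ}

/-- The conditions on the form making the construction work. -/
structure Good (G : (k[X])[X]) (d r r' : ℕ) : Prop extends Chart G d r r' where
  div0 : X ^ (2 * r) ∣ G.coeff 0
  div1 : X ^ r ∣ G.coeff 1
  div0Inf : X ^ (2 * r') ∣ (flip d G).reverse.coeff 0

theorem map_eq_aeval (hφC : ∀ c, φ (C c) = algebraMap k K c) (f : k[X]) : φ f = aeval (φ X) f := by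
  have : φ = (aeval (φ X) : k[X] →ₐ[k] K).toRingHom := by
    ext c
    · simp [hφC]
    · simp
  exact congrArg (fun ψ : k[X] →+* K => ψ f) this

theorem phi_injective (hu : ∀ s : k[X], s ≠ 0 → IsUnit (φ s)) : Function.Injective φ := by
  refine (injective_iff_map_eq_zero _).2 fun s hs => by_contra fun h => ?_
  have := hu s h
  rw [hs] at this
  exact not_isUnit_zero this

theorem transcendental_y (S : Setup G φ x) (hφC : ∀ c, φ (C c) = algebraMap k K c) :
    Transcendental k (φ X) :=
  transcendental_iff.2 fun p hp => phi_injective S.unit (by rw [map_eq_aeval hφC, hp, map_zero])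

theorem Setup.u_eq (S : Setup G φ x) : Ring.inverse (φ X) = (φ X)⁻¹ := Ring.inverse_eq_inv (φ X)

theorem phiInv_C' (hφC : ∀ c, φ (C c) = algebraMap k K c) (c : k) :
    phiInv φ (C c) = algebraMap k K c := by rw [phiInv_C, hφC]

/-- Integral over the image of a chart. -/
theorem integral_of_places (hF : IsFF k K) (ψ : k[X] →+* K) (hψC : ∀ c, ψ (C c) = algebraMap k K c)
    {z : K} (hz : ∀ P : Place k K, P.1 (ψ X) ≤ 1 → P.1 z ≤ 1) : ψ.IsIntegralElem z := by
  by_contra hint
  have hnot : z ∉ (integralClosure (Subring.closure (Set.range ψ)) K).toSubring := by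
    intro hmem
    obtain ⟨p, hp, hp0⟩ := (show IsIntegral (Subring.closure (Set.range ψ)) z from hmem)
    have hlift : p.map (algebraMap _ K) ∈ lifts ψ := by
      rw [lifts_iff_coeff_lifts]
      intro n
      rw [coeff_map]
      have : ((p.coeff n : Subring.closure (Set.range ψ)) : K) ∈ ψ.range :=
        Subring.closure_le.2 (show Set.range ψ ⊆ (ψ.range : Set K) by rw [RingHom.coe_range]) (p.coeff n).2
      obtain ⟨b, hb⟩ := this
      exact ⟨b, hb⟩
    obtain ⟨q, hq, -, hqm⟩ := lifts_and_degree_eq_and_monic hlift (hp.map _)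
    exact hint ⟨q, hqm, by rw [← eval_map, hq, eval_map]; exact hp0⟩
  rw [← iInf_valuationSubring_superset, Subring.mem_iInf] at hnot
  push Not at hnot
  obtain ⟨⟨V, hV⟩, hzV⟩ := hnot
  have hne : V ≠ ⊤ := fun h => hzV (by show z ∈ V; rw [h]; trivial)
  obtain ⟨P, hP⟩ := exists_place_of_valuationSubring hF V (fun c => hV ⟨C c, hψC c⟩) hne
  refine hzV (show z ∈ V from hP ▸ hz P ?_)
  show ψ X ∈ P.O
  rw [hP]
  exact hV ⟨X, rfl⟩

theorem val_phi_le (hφC : ∀ c, φ (C c) = algebraMap k K c) (P : Place k K) (hP : P.1 (φ X) ≤ 1) (f : k[X]) :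
    P.1 (φ f) ≤ 1 := by
  rw [map_eq_aeval hφC]
  exact FFLib.val_aeval_le_one P.2.1 hP f

/-- The twisted basis is integral where `y` is. -/
theorem Setup.val_wel_le (S : Setup G φ x) (hφC : ∀ c, φ (C c) = algebraMap k K c) (h0 : G.coeff 0 ≠ 0)
    (h2 : 2 ≤ G.natDegree) {r : ℕ} (hd0 : X ^ (2 * r) ∣ G.coeff 0) (hd1 : X ^ r ∣ G.coeff 1)
    (P : Place k K) (hP : P.1 (φ X) ≤ 1) (i : ℕ) (hi : i < G.natDegree) :
    P.1 (wel G φ x r i) ≤ 1 := by
  have hy : φ X ≠ 0 := (S.unit X X_ne_zero).ne_zero
  have hpos : 0 < P.1 (φ X) ^ eps G r i := pow_pos (zero_lt_iff.2 (val_ne_zero P hy)) _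
  suffices h : P.1 ((thetaPoly G i).eval₂ φ x) ≤ P.1 (φ X) ^ eps G r i by
    rw [← S.wel_spec r i, map_mul, map_pow] at h
    exact le_of_mul_le_mul_left (by rwa [mul_one]) hpos
  rcases eq_or_ne i 0 with rfl | hi0
  · simp [thetaPoly, eps, show ¬ 1 = G.natDegree by omega]
  have hc := val_phi_le hφC P hP
  have hdvd : ∀ (n : ℕ) (f : k[X]), X ^ n ∣ f → P.1 (φ f) ≤ P.1 (φ X) ^ n := by
    rintro n _ ⟨g, rfl⟩
    rw [map_mul, map_mul, map_pow, map_pow]
    exact mul_le_of_le_one_right' (hc g)
  by_cases hx : P.1 x ≤ P.1 (φ X) ^ eps G r i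
  · rw [thetaPoly, if_neg hi0, eval₂_finsetSum]
    refine Valuation.map_sum_le _ fun a ha => ?_
    rw [Finset.mem_range] at ha
    rw [eval₂_mul, eval₂_C, eval₂_X_pow, map_mul, map_pow]
    refine (mul_le_of_le_one_left' (hc _)).trans ?_
    rw [show i - a = i - a - 1 + 1 by omega, pow_succ]
    exact (mul_le_of_le_one_left' (pow_le_one₀ zero_le' (hx.trans (pow_le_one₀ zero_le' hP)))).trans hx
  · rw [not_le] at hx
    have hx0 : x ≠ 0 := by rintro rfl; simp at hx
    have htail := congrArg (fun p : (k[X])[X] => p.eval₂ φ x) (thetaPoly_tail (G := G) hi0 hi.le)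
    simp only [eval₂_add, eval₂_mul, eval₂_X_pow, eval₂_finsetSum, eval₂_C, S.root] at htail
    have hθ : x ^ (G.natDegree - i) * (thetaPoly G i).eval₂ φ x =
        -∑ l ∈ Finset.range (G.natDegree - i + 1), φ (G.coeff l) * x ^ l := eq_neg_of_add_eq_zero_left htail
    have hxpos : 0 < P.1 x ^ (G.natDegree - i) := pow_pos (zero_lt_iff.2 (val_ne_zero P hx0)) _
    refine le_of_mul_le_mul_left ?_ hxpos
    rw [← map_pow, ← map_mul, hθ, Valuation.map_neg]
    refine Valuation.map_sum_le _ fun l hl => ?_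
    rw [Finset.mem_range] at hl
    rw [map_mul, map_pow, map_pow]
    by_cases hlast : i + 1 = G.natDegree
    · rw [eps, if_pos hlast] at hx ⊢
      rw [show G.natDegree - i = 1 by omega, pow_one]
      rcases (show l = 0 ∨ l = 1 by omega) with rfl | rfl
      · rw [pow_zero, mul_one]
        refine (hdvd _ _ hd0).trans ?_
        rw [two_mul, pow_add]
        exact mul_le_mul' hx.le le_rfl
      · rw [pow_one, mul_comm]
        exact mul_le_mul' le_rfl (hdvd _ _ hd1)
    · rw [eps, if_neg hlast, pow_zero] at hx ⊢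
      rw [mul_one]
      exact (mul_le_of_le_one_left' (hc _)).trans (pow_le_pow_right₀ hx.le (by omega))

variable [IsAlgClosed k]

theorem Setup.val_wel_inf (S : Setup G φ x) (hφC : ∀ c, φ (C c) = algebraMap k K c) (H : Good G d r r')
    (P : Place k K) (hP : 1 ≤ P.1 (φ X)) (i : ℕ) (hi : i < G.natDegree) :
    P.1 (wel G φ x r i) ≤ P.1 (φ X) ^ deg G d r r' i := by
  rcases eq_or_ne i 0 with rfl | hi0
  · rw [wel_zero _ H.two, map_one]; exact one_le_pow₀ hP
  obtain ⟨xi, hxi⟩ := S.exists_inv H.coeff0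
  obtain ⟨e, he⟩ := S.wel_inf H.toChart hxi hi hi0
  have hX : P.1 (phiInv φ X) ≤ 1 := by rw [phiInv_X, S.u_eq, map_inv₀]; exact inv_le_one_of_one_le₀ hP
  have h := ((S.inf H.bound H.top H.coeff0).rev hxi H.inf_coeff0).val_wel_le (r := r') (phiInv_C' hφC)
    (by rw [coeff_zero_reverse, Ne, leadingCoeff_eq_zero]; exact (S.inf H.bound H.top H.coeff0).ne_zero)
    (by rw [H.inf_rev_natDegree]; exact H.two) H.div0Inf H.div1Inf P hX (G.natDegree - i)
    (by rw [H.inf_rev_natDegree]; omega)
  have h2 : P.1 (Ring.inverse (φ X) ^ deg G d r r' i * wel G φ x r i) ≤ 1 := by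
    rw [he, Valuation.map_neg]
    exact (Valuation.map_add _ _ _).trans (max_le h (val_phi_le (phiInv_C' hφC) P hX e))
  rwa [map_mul, map_pow, S.u_eq, map_inv₀, inv_pow,
    inv_mul_le_iff₀ (pow_pos (zero_lt_one.trans_le hP) _), mul_one] at h2

theorem val_poles_of_one_le (hF : IsFF k K) {y : K} (hy : y ≠ 0) (P : Place k K) (hP : 1 ≤ P.1 y) :
    exp ((poles y : Divisor k K) P) = P.1 y := by
  rw [poles, Finsupp.mapRange_apply, div_apply hF, val_eq_exp P hy]
  rw [val_eq_exp P hy, ← exp_zero, exp_le_exp] at hP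
  rw [max_eq_left hP]

theorem poles_zero_of_le (hF : IsFF k K) {y : K} (hy : y ≠ 0) (P : Place k K) (hP : P.1 y ≤ 1) :
    (poles y : Divisor k K) P = 0 := by
  rw [poles, Finsupp.mapRange_apply, div_apply hF]
  rw [val_le_one_iff P hy] at hP
  exact max_eq_right (by omega)

/-- The sum map of the basis. -/
noncomputable def combo (hφC : ∀ c, φ (C c) = algebraMap k K c) (G : (k[X])[X]) (x : K) (r : ℕ) (n : ℕ → ℕ) :
    (∀ i : Fin G.natDegree, degreeLT k (n i)) →ₗ[k] K where
  toFun c := ∑ i, φ (c i : k[X]) * wel G φ x r i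
  map_add' c c' := by simp [add_mul, Finset.sum_add_distrib]
  map_smul' a c := by
    simp only [Pi.smul_apply, SetLike.val_smul, RingHom.id_apply, Finset.smul_sum]
    refine Finset.sum_congr rfl fun i _ => ?_
    rw [smul_eq_C_mul, map_mul, hφC, Algebra.smul_def, mul_assoc]

theorem Setup.ell_eq (S : Setup G φ x) (hφC : ∀ c, φ (C c) = algebraMap k K c) (H : Good G d r r')
    (hF : IsFF k K) {N : ℕ} (hN : d ≤ N) :
    ell (N • (poles (φ X) : Divisor k K)) = ∑ i ∈ Finset.range G.natDegree, (N + 1 - deg G d r r' i) := by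
  have hy : φ X ≠ 0 := (S.unit X X_ne_zero).ne_zero
  have hale : ∀ i, deg G d r r' i ≤ N := fun i => by unfold deg; split_ifs <;> omega
  let n : ℕ → ℕ := fun i => N + 1 - deg G d r r' i
  have hdeg : ∀ (i : ℕ) (f : k[X]), f ∈ degreeLT k (n i) ↔ (f = 0 ∨ f.natDegree + deg G d r r' i ≤ N) := by
    intro i f
    rw [mem_degreeLT]
    rcases eq_or_ne f 0 with rfl | hf
    · simp
    · rw [degree_eq_natDegree hf, Nat.cast_lt]
      have := hale i
      simp only [n, hf, false_or]
      omega
  have hLB : ∀ (P : Place k K), exp ((N • (poles (φ X) : Divisor k K)) P) = exp ((poles (φ X) : Divisor k K) P) ^ N := by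
    intro P
    rw [Finsupp.smul_apply, exp_nsmul]
  have hrange : LinearMap.range (combo hφC G x r n) = L (N • (poles (φ X) : Divisor k K)) := by
    ext z
    constructor
    · rintro ⟨c, rfl⟩ P
      show P.1 (∑ i, φ (c i : k[X]) * wel G φ x r i) ≤ _
      rw [hLB]
      refine Valuation.map_sum_le _ fun i _ => ?_
      rw [map_mul]
      rcases le_total (P.1 (φ X)) 1 with hP | hP
      · rw [poles_zero_of_le hF hy P hP, exp_zero, one_pow]
        exact mul_le_one' (val_phi_le hφC P hP _)
          (S.val_wel_le hφC H.coeff0 H.two H.div0 H.div1 P hP i i.2)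
      · rw [val_poles_of_one_le hF hy P hP]
        rcases (hdeg i _).1 (c i).2 with h | h
        · rw [h, map_zero, map_zero, zero_mul]; exact zero_le'
        refine le_trans ?_ (pow_le_pow_right₀ hP h)
        rw [pow_add]
        refine mul_le_mul' ?_ (S.val_wel_inf hφC H P hP i i.2)
        rw [map_eq_aeval hφC, aeval_eq_sum_range]
        refine Valuation.map_sum_le _ fun l hl => ?_
        rw [Finset.mem_range] at hl
        rw [Algebra.smul_def, map_mul, map_pow]
        exact (mul_le_of_le_one_left' (P.2.1 _)).trans (pow_le_pow_right₀ hP (by omega))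
    · intro hz
      rw [mem_L] at hz
      have h1 : φ.IsIntegralElem z := integral_of_places hF φ hφC fun P hP => by
        have := hz P
        rwa [hLB, poles_zero_of_le hF hy P hP, exp_zero, one_pow] at this
      obtain ⟨c, hc⟩ := S.int_fin H.toChart h1
      have h2 : (phiInv φ).IsIntegralElem (Ring.inverse (φ X) ^ N * z) :=
        integral_of_places hF (phiInv φ) (phiInv_C' hφC) fun P hP => by
          rw [phiInv_X, S.u_eq, map_inv₀, inv_le_one₀ (zero_lt_iff.2 (val_ne_zero P hy))] at hP
          have := hz P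
          rw [hLB, val_poles_of_one_le hF hy P hP] at this
          rw [map_mul, map_pow, S.u_eq, map_inv₀, inv_pow,
            inv_mul_le_iff₀ (pow_pos (zero_lt_one.trans_le hP) _), mul_one]
          exact this
      have hb := S.coeff_bound H.toChart hc h2
      refine ⟨fun i => ⟨c i, (hdeg i _).2 (hb i i.2)⟩, ?_⟩
      show ∑ i : Fin G.natDegree, φ (c i) * wel G φ x r i = z
      rw [hc, Finset.sum_range]
  have hinj : Function.Injective (combo hφC G x r n) := by
    refine (injective_iff_map_eq_zero _).2 fun c hc => ?_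
    have h := S.wel_indep r (c := fun i => if hi : i < G.natDegree then (c ⟨i, hi⟩ : k[X]) else 0) (by
      rw [← hc, Finset.sum_range]
      exact Finset.sum_congr rfl fun i _ => by rw [dif_pos i.2])
    funext i
    have := h i i.2
    rw [dif_pos i.2] at this
    exact Subtype.ext this
  haveI : ∀ i : Fin G.natDegree, Module.Finite k (degreeLT k (n i)) := fun i =>
    Module.Finite.equiv (degreeLTEquiv k (n i)).symm
  show Module.finrank k (L _) = _
  rw [← hrange, LinearMap.finrank_range_of_inj hinj, Module.finrank_pi_fintype, Finset.sum_range]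
  exact Finset.sum_congr rfl fun i _ => by rw [(degreeLTEquiv k (n i)).finrank_eq, Module.finrank_fin_fun]

theorem Setup.isFunctionField (S : Setup G φ x) (hφC : ∀ c, φ (C c) = algebraMap k K c) (H : Good G d r r')
    (hF : IsFF k K) : IsFunctionField k K := by
  refine ⟨hF, fun z hz => ?_⟩
  have hint : ∀ ψ : k[X] →+* K, (∀ c, ψ (C c) = algebraMap k K c) → ψ.IsIntegralElem z := fun ψ hψ => by
    obtain ⟨p, hpm, hp⟩ := hz.isIntegral
    refine ⟨p.map C, hpm.map _, ?_⟩
    rw [eval₂_map, show ψ.comp C = algebraMap k K from RingHom.ext hψ]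
    exact hp
  obtain ⟨a, ha⟩ := S.global_const H.toChart (hint φ hφC) (hint _ (phiInv_C' hφC))
  exact ⟨a, by rw [ha, hφC]⟩

/-- **The genus.** -/
theorem Setup.genus_eq (S : Setup G φ x) (hφC : ∀ c, φ (C c) = algebraMap k K c) (H : Good G d r r')
    (hfin : FiniteDimensional k⟮φ X⟯ K) (hm : Module.finrank k⟮φ X⟯ K = G.natDegree) :
    IsFunctionField k K ∧ (genus k K : ℤ) = ((G.natDegree : ℤ) - 1) * ((d : ℤ) - 1) - (r + r') := by
  have hty := transcendental_y S hφC
  have hF : IsFF k K := ⟨φ X, hty, hfin⟩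
  have hK := S.isFunctionField hφC H hF
  refine ⟨hK, ?_⟩
  let N := 2 * genus k K + d + 1
  have hB : (poles (φ X) : Divisor k K).deg = G.natDegree := by rw [deg_poles hF hty, hm]
  have hdegN : ((N • (poles (φ X) : Divisor k K)) : Divisor k K).deg = (N : ℤ) * G.natDegree := by
    rw [← hB]
    clear_value N
    induction N with
    | zero => simp [Divisor.deg]
    | succ N ih => rw [succ_nsmul, Divisor.deg_add, ih]; push_cast; ring
  have h1 := ell_of_deg_gt hK (D := N • (poles (φ X) : Divisor k K)) (by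
    rw [hdegN]
    have := H.two
    have h2 : (N : ℤ) * 2 ≤ (N : ℤ) * G.natDegree := by gcongr; exact_mod_cast this
    simp only [N] at h2 ⊢
    push_cast at h2 ⊢
    linarith)
  rw [hdegN, S.ell_eq hφC H hF (by omega), Nat.cast_sum] at h1
  have hterm : ∀ i ∈ Finset.range G.natDegree, ((N + 1 - deg G d r r' i : ℕ) : ℤ) =
      (N : ℤ) + 1 - d + (if i = 0 then (d : ℤ) else 0) + (if i + 1 = G.natDegree then (r : ℤ) else 0) +
        (if i = 1 then (r' : ℤ) else 0) := by
    intro i hi
    rw [Finset.mem_range] at hi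
    have := H.rle
    have := H.two
    unfold deg eps
    split_ifs <;> push_cast <;> omega
  rw [Finset.sum_congr rfl hterm, Finset.sum_add_distrib, Finset.sum_add_distrib, Finset.sum_add_distrib,
    Finset.sum_const, Finset.card_range, Finset.sum_ite_eq', if_pos (Finset.mem_range.2 S.pos),
    Finset.sum_ite_eq', if_pos (Finset.mem_range.2 (show 1 < G.natDegree by have := H.two; omega)),
    Finset.sum_eq_single_of_mem (G.natDegree - 1) (Finset.mem_range.2 (by have := S.pos; omega))
      (fun i hi hne => if_neg (by rw [Finset.mem_range] at hi; omega)),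
    if_pos (by have := S.pos; omega), nsmul_eq_mul] at h1
  linear_combination h1

omit [IsAlgClosed k] in
theorem coeff_swap (p : (k[X])[X]) (i j : ℕ) : ((Bivariate.swap p).coeff j).coeff i = (p.coeff i).coeff j := by
  induction p using Polynomial.induction_on' with
  | add p q hp hq => simp [hp, hq]
  | monomial n a =>
    induction a using Polynomial.induction_on' with
    | add a b ha hb => rw [map_add, map_add]; simp [ha, hb]
    | monomial m c =>
      rw [Bivariate.swap_monomial_monomial]
      simp only [coeff_monomial]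
      split_ifs <;> simp_all [coeff_monomial]

/-- **The degree over `k(x)`.** -/
theorem Setup.finrank_x (S : Setup G φ x) (hφC : ∀ c, φ (C c) = algebraMap k K c) (H : Good G d r r') :
    Transcendental k x ∧ Module.finrank k⟮x⟯ K = d := by
  have hev : ∀ p : (k[X])[X], p.eval₂ φ x = Polynomial.aevalAeval (φ X) x p := by
    intro p
    induction p using Polynomial.induction_on' with
    | add p q hp hq => simp [hp, hq]
    | monomial n a => simp [map_eq_aeval hφC a]
  have hd1 : 1 ≤ d := by have := H.rle; omega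
  have hGt : (Bivariate.swap G).natDegree = d := by
    refine le_antisymm (natDegree_le_iff_coeff_eq_zero.2 fun j hj => ?_) (le_natDegree_of_ne_zero ?_)
    · ext i
      rw [coeff_swap, coeff_zero, coeff_eq_zero_of_natDegree_lt ((H.bound i).trans_lt hj)]
    · intro h
      have := congrArg (fun f : k[X] => f.coeff 0) h
      rw [coeff_swap, ← H.top] at this
      simp only [coeff_zero] at this
      exact leadingCoeff_ne_zero.2 H.coeff0 this
  have hno : ∀ P : (k[X])[X], P.natDegree < d → Polynomial.aevalAeval x (φ X) P = 0 → P = 0 := by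
    intro P hP h0
    rw [← Bivariate.swap_swap_apply P, Bivariate.aevalAeval_swap, ← hev] at h0
    obtain ⟨g, hg⟩ := S.dvd_of_eval h0
    have hP' : P = Bivariate.swap G * Bivariate.swap g := by
      rw [← map_mul, ← hg, Bivariate.swap_swap_apply]
    by_contra hne
    have hne' : Bivariate.swap G ≠ 0 ∧ Bivariate.swap g ≠ 0 := mul_ne_zero_iff.1 (hP' ▸ hne)
    rw [hP', natDegree_mul hne'.1 hne'.2, hGt] at hP
    omega
  have htx : Transcendental k x := transcendental_iff.2 fun f hf => by
    have h := hno (C f) (by rw [natDegree_C]; omega) (by simpa using hf)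
    simpa using h
  refine ⟨htx, ?_⟩
  let ι : k[X] →+* k⟮x⟯ := (aeval (AdjoinSimple.gen k x)).toRingHom
  have hι : (algebraMap k⟮x⟯ K).comp ι = (aeval x : k[X] →ₐ[k] K).toRingHom := by
    ext c <;> simp [ι]
  have hev2 : ∀ P : (k[X])[X], aeval (φ X) (P.map ι) = Polynomial.aevalAeval x (φ X) P := by
    intro P
    rw [aeval_def, eval₂_map, hι]
    induction P using Polynomial.induction_on' with
    | add p q hp hq => rw [eval₂_add, map_add, hp, hq]
    | monomial n a => simp
  have hι_inj : Function.Injective ι := fun a b h => by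
    have := congrArg (algebraMap k⟮x⟯ K) h
    rw [← RingHom.comp_apply, ← RingHom.comp_apply, hι] at this
    exact transcendental_iff_injective.1 htx this
  let Q : k⟮x⟯[X] := (Bivariate.swap G).map ι
  have hQ0 : aeval (φ X) Q = 0 := by rw [hev2, Bivariate.aevalAeval_swap, ← hev, S.root]
  have hQdeg : Q.natDegree = d := by rw [natDegree_map_eq_of_injective hι_inj, hGt]
  have hQne : Q ≠ 0 := fun h => by rw [h, natDegree_zero] at hQdeg; omega
  have hint : IsIntegral k⟮x⟯ (φ X) := isAlgebraic_iff_isIntegral.1 ⟨Q, hQne, hQ0⟩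
  have htop : k⟮x⟯⟮φ X⟯ = ⊤ := by
    rw [eq_top_iff]
    intro z _
    obtain ⟨s, hs, p, hp⟩ := S.span z
    have hy : φ X ∈ k⟮x⟯⟮φ X⟯ := mem_adjoin_simple_self _ _
    have hk : ∀ f : k[X], φ f ∈ k⟮x⟯⟮φ X⟯ := fun f => by
      have e : φ f = ∑ l ∈ Finset.range (f.natDegree + 1), f.coeff l • φ X ^ l :=
        (map_eq_aeval hφC f).trans (aeval_eq_sum_range (φ X))
      rw [e]
      refine sum_mem fun l _ => ?_
      rw [Algebra.smul_def, IsScalarTower.algebraMap_apply k k⟮x⟯ K]
      exact mul_mem (IntermediateField.algebraMap_mem _ _) (pow_mem hy _)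
    rw [eq_inv_mul_iff_mul_eq₀ (S.unit s hs).ne_zero |>.2 hp]
    refine mul_mem (inv_mem (hk s)) ?_
    rw [eval₂_eq_sum_range]
    refine sum_mem fun l _ => mul_mem (hk _) (pow_mem ?_ _)
    exact IntermediateField.algebraMap_mem _ (AdjoinSimple.gen k x)
  have hfr : Module.finrank k⟮x⟯ K = (minpoly k⟮x⟯ (φ X)).natDegree := by
    rw [← IntermediateField.adjoin.finrank hint, htop, IntermediateField.finrank_top']
  rw [hfr]
  refine le_antisymm (hQdeg ▸ natDegree_le_of_dvd (minpoly.dvd _ _ hQ0) hQne) ?_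
  by_contra hlt
  obtain ⟨s, hs, P, hP, hPdeg⟩ : ∃ (s : k[X]) (_ : s ≠ 0) (P : (k[X])[X]),
      P.map ι = C (ι s) * minpoly k⟮x⟯ (φ X) ∧ P.natDegree ≤ (minpoly k⟮x⟯ (φ X)).natDegree := by
    have hfrac : ∀ c : k⟮x⟯, ∃ a b : k[X], b ≠ 0 ∧ ι b * c = ι a := by
      intro c
      obtain ⟨a, b, hab⟩ := (mem_adjoin_simple_iff k (c : K)).1 c.2
      rcases eq_or_ne b 0 with rfl | hb
      · rw [map_zero, div_zero] at hab
        refine ⟨0, 1, one_ne_zero, ?_⟩
        rw [map_zero, map_one, one_mul]; exact Subtype.ext hab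
      · refine ⟨a, b, hb, Subtype.ext ?_⟩
        show algebraMap k⟮x⟯ K (ι b * c) = algebraMap k⟮x⟯ K (ι a)
        rw [map_mul, ← RingHom.comp_apply, ← RingHom.comp_apply, hι]
        show aeval x b * (c : K) = aeval x a
        rw [hab, mul_div_cancel₀]
        exact fun h => hb (transcendental_iff.1 htx b h)
    choose num den hden hnum using fun n => hfrac ((minpoly k⟮x⟯ (φ X)).coeff n)
    let D := (minpoly k⟮x⟯ (φ X)).natDegree
    refine ⟨∏ n ∈ Finset.range (D + 1), den n, Finset.prod_ne_zero_iff.2 fun n _ => hden n,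
      ∑ n ∈ Finset.range (D + 1), C (num n * ∏ l ∈ (Finset.range (D + 1)).erase n, den l) * X ^ n, ?_, ?_⟩
    · conv_rhs => rw [(minpoly k⟮x⟯ (φ X)).as_sum_range_C_mul_X_pow, Finset.mul_sum]
      rw [Polynomial.map_sum]
      refine Finset.sum_congr rfl fun n hn => ?_
      rw [Polynomial.map_mul, map_C, Polynomial.map_pow, map_X, ← mul_assoc, ← C_mul,
        ← Finset.mul_prod_erase _ _ hn, map_mul, map_mul, ← hnum n]
      congr 1; rw [← C_mul]; congr 1; rw [map_mul]; ring
    · refine natDegree_sum_le_of_forall_le _ _ fun n hn => ?_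
      rw [Finset.mem_range] at hn
      exact (natDegree_C_mul_X_pow_le _ _).trans (by omega)
  have h0 := hno P (by omega) (by rw [← hev2, hP, map_mul, minpoly.aeval, mul_zero])
  rw [h0, Polynomial.map_zero, eq_comm, mul_eq_zero, C_eq_zero] at hP
  exact hP.elim (fun h => hs (hι_inj (by rw [h, map_zero]))) (minpoly.ne_zero hint)

end Groth.Agent.CurvFam16.Gonal
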