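import Groth.Agent.CurvFam16.Gonal.Generic
import Groth.Agent.CurvFam16.Gonal.Branch
import Groth.Agent.CurvFam16.Gonal.FF

/-! A binary form giving a curve of prescribed genus with a map of prescribed degree to the line. -/

set_option linter.style.haveILetI false
set_option backward.isDefEq.respectTransparency false

namespace Groth.Agent.CurvFam16.Gonal

open Polynomial

variable {k : Type*} [Field k]

theorem X_mul_derivative_reflect {R : Type*} [CommRing R] (N : ℕ) (f : R[X]) (hf : f.natDegree ≤ N) :
    X * derivative (f.reflect N) = (N : R[X]) * f.reflect N - (X * derivative f).reflect N := by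
  ext i
  rw [coeff_sub, coeff_reflect, ← C_eq_natCast, coeff_C_mul, coeff_reflect]
  rcases i with _ | i
  · simp only [coeff_X_mul_zero, revAt_le (Nat.zero_le N), Nat.sub_zero]
    rcases N with _ | N
    · simp
    · rw [coeff_X_mul, coeff_derivative]; push_cast; ring
  · rw [coeff_X_mul, coeff_derivative, coeff_reflect]
    by_cases hi : i + 1 ≤ N
    · rw [revAt_le hi]
      obtain ⟨l, rfl⟩ : ∃ l, N = i + 1 + l := ⟨N - (i + 1), by omega⟩
      rw [Nat.add_sub_cancel_left]
      rcases l with _ | l
      · simp only [coeff_X_mul_zero]; push_cast; ring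
      · rw [coeff_X_mul, coeff_derivative]; push_cast; ring
    · rw [show revAt N (i + 1) = i + 1 by simp [revAtFun, revAt, hi], coeff_X_mul, coeff_derivative,
        coeff_eq_zero_of_natDegree_lt (p := f) (by omega)]
      simp

theorem reflect_eq_X_pow_mul {f : k[X]} {r d : ℕ} (hr : r ≤ d) (hf : f.natDegree ≤ d - r) :
    f.reflect d = X ^ r * f.reflect (d - r) := by
  ext i
  rw [coeff_reflect, coeff_X_pow_mul', coeff_reflect]
  split_ifs with h
  · by_cases hid : i ≤ d
    · rw [revAt_le hid, revAt_le (by omega), show d - r - (i - r) = d - i by omega]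
    · rw [show revAt d i = i by simp [revAtFun, revAt, hid],
        show revAt (d - r) (i - r) = i - r by simp [revAtFun, revAt, show ¬ i - r ≤ d - r by omega],
        coeff_eq_zero_of_natDegree_lt (by omega), coeff_eq_zero_of_natDegree_lt (by omega)]
  · rw [revAt_le (by omega), coeff_eq_zero_of_natDegree_lt (by omega)]

theorem eval_reflect {R : Type*} [CommRing R] {f : R[X]} {N : ℕ} (hf : f.natDegree ≤ N) {a a' : R}
    (h : a * a' = 1) : (f.reflect N).eval a = a ^ N * f.eval a' := by
  letI : Invertible a' := ⟨a, h, by rw [mul_comm, h]⟩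
  have hh := eval₂_reflect_mul_pow (RingHom.id R) a' N f hf
  show (f.reflect N).eval₂ _ a = a ^ N * f.eval₂ _ a'
  rw [← hh]
  show (f.reflect N).eval₂ _ a = a ^ N * ((f.reflect N).eval₂ _ a * a' ^ N)
  rw [mul_left_comm, ← mul_pow, h, one_pow, mul_one]

theorem evPt_reflect (G : (k[X])[X]) {N : ℕ} (hG : G.natDegree ≤ N) {a a' : k} (h : a * a' = 1) (b : k) :
    evPt a b (G.reflect N) = a ^ N * evPt a' b G := by
  rw [evPt_eq, evPt_eq, eval_reflect hG (show C a * C a' = (1 : k[X]) by rw [← C_mul, h, C_1]), eval_mul,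
    eval_pow, eval_C]

theorem smoothOff_reverse (G : (k[X])[X]) (hG : SmoothOff G)
    (hzero : ∀ b : k, b ≠ 0 → G.leadingCoeff.eval b = 0 → (derivative G.leadingCoeff).eval b ≠ 0) :
    SmoothOff G.reverse := by
  intro a b hb h0
  rcases eq_or_ne a 0 with rfl | ha
  · refine Or.inr ?_
    rw [evPt_eq, C_0, ← coeff_zero_eq_eval_zero, coeff_zero_reverse] at h0
    rw [dyAt, C_0, ← coeff_zero_eq_eval_zero, coeff_zero_reverse]
    exact hzero b hb h0
  have h := mul_inv_cancel₀ ha
  have hC : C a * C a⁻¹ = (1 : k[X]) := by rw [← C_mul, h, C_1]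
  rw [reverse, evPt_reflect G le_rfl h, mul_eq_zero] at h0
  have h0' := h0.resolve_left (pow_ne_zero _ ha)
  rcases hG a⁻¹ b hb h0' with hx | hy
  · refine Or.inl fun hx' => hx ?_
    have hd := congrArg (evPt a b) (X_mul_derivative_reflect G.natDegree G le_rfl)
    have hle : (X * derivative G).natDegree ≤ G.natDegree := by
      rcases Nat.eq_zero_or_pos G.natDegree with hz | hp
      · rw [eq_C_of_natDegree_eq_zero hz]; simp
      · refine natDegree_mul_le.trans ?_
        have := natDegree_derivative_le G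
        rw [natDegree_X]; omega
    rw [map_mul, evPt_X, map_sub, map_mul, evPt_reflect G le_rfl h, h0', mul_zero, mul_zero, zero_sub,
      evPt_reflect _ hle h, map_mul, evPt_X, show evPt a b (derivative (G.reflect G.natDegree)) = 0 from hx',
      mul_zero, eq_comm, neg_eq_zero, mul_eq_zero, mul_eq_zero] at hd
    exact (hd.resolve_left (pow_ne_zero _ ha)).resolve_left (inv_ne_zero ha)
  · refine Or.inr ?_
    rw [dyAt, reverse, eval_reflect le_rfl hC, ← C_pow, derivative_C_mul, eval_mul, eval_C]
    exact mul_ne_zero (pow_ne_zero _ ha) hy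

theorem flip_eval (P : (k[X])[X]) (d : ℕ) (a : k) :
    (flip d P).eval (C a) = (P.eval (C a)).reflect d := by
  rw [eval_eq_sum_range, eval_eq_sum_range, natDegree_flip]
  ext l
  rw [finsetSum_coeff, coeff_reflect, finsetSum_coeff]
  simp only [coeff_flip, ← C_pow, coeff_mul_C, coeff_reflect]

theorem derivative_flip (P : (k[X])[X]) (d : ℕ) : derivative (flip d P) = flip d (derivative P) := by
  ext1 i
  ext l
  simp only [coeff_derivative, coeff_flip]
  rw [show ((i : k[X]) + 1) = C ((i : k) + 1) by simp, coeff_mul_C, coeff_reflect, coeff_reflect, coeff_mul_C]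

theorem evPt_flip {P : (k[X])[X]} {d : ℕ} (hP : ∀ i, (P.coeff i).natDegree ≤ d) (a : k) {b : k} (hb : b ≠ 0) :
    evPt a b (flip d P) = b ^ d * evPt a b⁻¹ P := by
  rw [evPt_eq, evPt_eq, flip_eval, eval_reflect ?_ (mul_inv_cancel₀ hb)]
  rw [eval_eq_sum_range]
  exact natDegree_sum_le_of_forall_le _ _ fun i _ => by rw [← C_pow]; exact (natDegree_mul_C_le _ _).trans (hP i)

theorem smoothOff_flip {G : (k[X])[X]} {d : ℕ} (hd : ∀ i, (G.coeff i).natDegree ≤ d) (hG : SmoothOff G) :
    SmoothOff (flip d G) := by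
  intro a b hb h0
  rw [evPt_flip hd a hb, mul_eq_zero] at h0
  have h0' := h0.resolve_left (pow_ne_zero _ hb)
  rcases hG a b⁻¹ (inv_ne_zero hb) h0' with hx | hy
  · refine Or.inl ?_
    rw [derivative_flip, evPt_flip (fun i => by
      rw [coeff_derivative, show ((i : k[X]) + 1) = C ((i : k) + 1) by simp]
      exact (natDegree_mul_C_le _ _).trans (hd _)) a hb]
    exact mul_ne_zero (pow_ne_zero _ hb) hx
  · refine Or.inr fun hy' => hy ?_
    have hF : (G.eval (C a)).natDegree ≤ d := by
      rw [eval_eq_sum_range]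
      exact natDegree_sum_le_of_forall_le _ _ fun i _ => by
        rw [← C_pow]; exact (natDegree_mul_C_le _ _).trans (hd i)
    have hXF : (X * derivative (G.eval (C a))).natDegree ≤ d := by
      rcases Nat.eq_zero_or_pos (G.eval (C a)).natDegree with hz | hp
      · rw [eq_C_of_natDegree_eq_zero hz]; simp
      · refine natDegree_mul_le.trans ?_
        have := natDegree_derivative_le (G.eval (C a))
        rw [natDegree_X]; omega
    have h1 := mul_inv_cancel₀ hb
    have hd' := congrArg (eval b) (X_mul_derivative_reflect d (G.eval (C a)) hF)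
    rw [eval_mul, eval_X, eval_sub, eval_mul, eval_reflect hF h1, ← evPt_eq, h0', mul_zero, mul_zero, zero_sub,
      eval_reflect hXF h1, eval_mul, eval_X, ← flip_eval,
      show eval b (derivative ((flip d G).eval (C a))) = 0 from hy', mul_zero, eq_comm, neg_eq_zero, mul_eq_zero,
      mul_eq_zero] at hd'
    exact (hd'.resolve_left (pow_ne_zero _ hb)).resolve_left (inv_ne_zero hb)

/-- A split polynomial with distinct nonzero roots. -/
noncomputable def pr (α : ℕ → k) (L : ℕ) : k[X] := ∏ i ∈ Finset.range L, (X - C (α i))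

variable {α : ℕ → k}

theorem pr_monic (L : ℕ) : (pr α L).Monic := monic_prod_of_monic _ _ fun i _ => monic_X_sub_C _

theorem pr_natDegree (L : ℕ) : (pr α L).natDegree = L := by
  rw [pr, natDegree_prod_of_monic _ _ fun i _ => monic_X_sub_C _]
  simp

theorem pr_coeff_zero (hα : ∀ i, α i ≠ 0) (L : ℕ) : (pr α L).coeff 0 ≠ 0 := by
  rw [coeff_zero_eq_eval_zero, pr, eval_prod]
  exact Finset.prod_ne_zero_iff.2 fun i _ => by simp [hα i]

theorem pr_separable (hinj : Function.Injective α) (L : ℕ) : (pr α L).Separable :=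
  separable_prod_X_sub_C_iff'.2 fun _ _ _ _ h => hinj h

theorem pr_simple (hinj : Function.Injective α) (L : ℕ) {b : k} (h : (pr α L).eval b = 0) :
    (derivative (pr α L)).eval b ≠ 0 := fun h' => by
  obtain ⟨u, v, huv⟩ := pr_separable (α := α) hinj L
  have := congrArg (eval b) huv
  rw [eval_add, eval_mul, eval_mul, h, h', mul_zero, mul_zero, add_zero, eval_one] at this
  exact zero_ne_one this

/-- The fixed part of the form. -/
noncomputable def fixedPart (α : ℕ → k) (n d r1 r2 : ℕ) (e : k) : (k[X])[X] :=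
  C (X ^ (2 * r1) * pr α (d - 2 * r1)) +
    X ^ 2 * (C ((pr α (d - 2 * r2)).eval 0) * pr α n).map C +
    X ^ (n + 2) * C (pr α (d - 2 * r2) - C ((pr α (d - 2 * r2)).eval 0)) +
    C (X ^ d) * ((pr α n).reverse - 1).map C +
    C (C e * X ^ (d - r2)) * X ^ (n + 1)

/-- The form. -/
noncomputable def form (α : ℕ → k) (n d r1 r2 : ℕ) (e c0 c1 : k) : (k[X])[X] :=
  fixedPart α n d r1 r2 e + X * C (C c0 * X ^ r1 + C c1 * X ^ (r1 + 1))

variable {n d r1 r2 : ℕ} {e c0 c1 : k}

theorem fixed_coeff (i : ℕ) : (fixedPart α n d r1 r2 e).coeff i =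
    (if i = 0 then X ^ (2 * r1) * pr α (d - 2 * r1) else 0) +
    C (if 2 ≤ i then (pr α (d - 2 * r2)).eval 0 * (pr α n).coeff (i - 2) else 0) +
    (if i = n + 2 then pr α (d - 2 * r2) - C ((pr α (d - 2 * r2)).eval 0) else 0) +
    X ^ d * C (((pr α n).reverse - 1).coeff i) + (if i = n + 1 then C e * X ^ (d - r2) else 0) := by
  simp only [fixedPart, coeff_add, coeff_C, coeff_X_pow_mul', coeff_C_mul, coeff_map]
  congr 1
  · congr 1
    · congr 1
      · congr 1
        split_ifs <;> simp
      · split_ifs <;> first | rfl | omega | simp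
    all_goals rfl
  · rw [coeff_X_pow]
    split_ifs <;> simp

theorem form_coeff (i : ℕ) : (form α n d r1 r2 e c0 c1).coeff i =
    (fixedPart α n d r1 r2 e).coeff i + if i = 1 then C c0 * X ^ r1 + C c1 * X ^ (r1 + 1) else 0 := by
  rw [form, coeff_add, mul_comm X, coeff_C_mul_X]

theorem natDegree_rev_sub_one : ((pr α n).reverse - 1).natDegree ≤ n :=
  (natDegree_sub_le _ _).trans (max_le ((reverse_natDegree_le _).trans (pr_natDegree n).le) (by simp))

theorem rev_sub_one_coeff_zero : ((pr α n).reverse - 1).coeff 0 = 0 := by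
  rw [coeff_sub, coeff_zero_reverse, (pr_monic n).leadingCoeff, coeff_one_zero, sub_self]

theorem form_coeff_zero : (form α n d r1 r2 e c0 c1).coeff 0 = X ^ (2 * r1) * pr α (d - 2 * r1) := by
  rw [form_coeff, fixed_coeff, rev_sub_one_coeff_zero]
  simp

theorem form_coeff_top : (form α n d r1 r2 e c0 c1).coeff (n + 2) = pr α (d - 2 * r2) := by
  rw [form_coeff, fixed_coeff, coeff_eq_zero_of_natDegree_lt (lt_of_le_of_lt natDegree_rev_sub_one (by omega)),
    show n + 2 - 2 = n by omega, show (pr α n).coeff n = 1 by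
      conv_lhs => arg 2; rw [← pr_natDegree (α := α) n]
      exact (pr_monic n).leadingCoeff]
  simp

theorem form_natDegree : (form α n d r1 r2 e c0 c1).natDegree = n + 2 := by
  refine le_antisymm (natDegree_le_iff_coeff_eq_zero.2 fun i hi => ?_) (le_natDegree_of_ne_zero ?_)
  · rw [form_coeff, fixed_coeff, coeff_eq_zero_of_natDegree_lt (p := (pr α n).reverse - 1)
      (lt_of_le_of_lt natDegree_rev_sub_one (by omega)),
      coeff_eq_zero_of_natDegree_lt (p := pr α n) (n := i - 2) (by rw [pr_natDegree]; omega)]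
    simp [show i ≠ 0 by omega, show i ≠ n + 2 by omega, show i ≠ n + 1 by omega, show i ≠ 1 by omega]
  · rw [form_coeff_top]
    exact (pr_monic _).ne_zero

theorem form_lead : (form α n d r1 r2 e c0 c1).leadingCoeff = pr α (d - 2 * r2) := by
  rw [leadingCoeff, form_natDegree, form_coeff_top]

theorem form_bound (hr1 : 2 * r1 < d) (i : ℕ) : ((form α n d r1 r2 e c0 c1).coeff i).natDegree ≤ d := by
  rw [form_coeff, fixed_coeff]
  refine (natDegree_add_le _ _).trans (max_le ((natDegree_add_le _ _).trans (max_le ((natDegree_add_le _ _).trans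
    (max_le ((natDegree_add_le _ _).trans (max_le ((natDegree_add_le _ _).trans (max_le ?_ ?_)) ?_)) ?_)) ?_)) ?_)
  · split_ifs
    · refine natDegree_mul_le.trans ?_
      rw [natDegree_X_pow, pr_natDegree]; omega
    · simp
  · rw [natDegree_C]; omega
  · split_ifs
    · refine (natDegree_sub_le _ _).trans (max_le ?_ ?_)
      · rw [pr_natDegree]; omega
      · rw [natDegree_C]; omega
    · simp
  · exact (natDegree_mul_C_le _ _).trans (by rw [natDegree_X_pow])
  · split_ifs
    · exact (natDegree_C_mul_X_pow_le _ _).trans (by omega)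
    · simp
  · split_ifs
    · exact (natDegree_add_le _ _).trans (max_le ((natDegree_C_mul_X_pow_le _ _).trans (by omega))
        ((natDegree_C_mul_X_pow_le _ _).trans (by omega)))
    · simp

theorem form_fib (hd : r2 < d) : fib (form α n d r1 r2 e c0 c1) =
    C ((X ^ (2 * r1) * pr α (d - 2 * r1)).eval 0) + C (if r1 = 0 then c0 else 0) * X +
      X ^ 2 * (C ((pr α (d - 2 * r2)).eval 0) * pr α n) := by
  have h : (evalRingHom (0 : k)).comp C = RingHom.id k := by ext; simp
  simp only [fib, form, fixedPart, Polynomial.map_add, Polynomial.map_mul, Polynomial.map_pow, map_C, map_X,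
    Polynomial.map_map, h, Polynomial.map_id, coe_evalRingHom, eval_sub, eval_C, sub_self, eval_pow, eval_X,
    eval_mul, eval_add, zero_pow (show d ≠ 0 by omega), zero_pow (show d - r2 ≠ 0 by omega),
    zero_pow (Nat.succ_ne_zero r1), mul_zero, zero_mul, C_0, add_zero]
  split_ifs with hr
  · subst hr; simp; ring
  · rw [zero_pow hr, mul_zero]; simp

theorem fib_flip_reverse_coeff (G : (k[X])[X]) {m : ℕ} (hd : ∀ i, (G.coeff i).natDegree ≤ d) (hm : G.natDegree = m)
    (i : ℕ) : (fib (flip d G).reverse).coeff i = (G.coeff (revAt m i)).coeff d := by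
  rw [fib, coeff_map, coeff_reverse, natDegree_flip, hm, coeff_flip, coe_evalRingHom, ← coeff_zero_eq_eval_zero,
    coeff_reflect, revAt_le (Nat.zero_le d), Nat.sub_zero]

theorem form_top_coeff (hr1 : 2 * r1 < d) (hsum : r1 + r2 + 2 ≤ d) (l : ℕ) :
    ((form α n d r1 r2 e c0 c1).coeff l).coeff d =
      (C (if r2 = 0 then (1 : k) else 0) * X ^ (n + 2) + C (if r2 = 0 then e else 0) * X ^ (n + 1) +
        (pr α n).reverse).coeff l := by
  have hp1 : (X ^ (2 * r1) * pr α (d - 2 * r1)).coeff d = 1 := by
    rw [coeff_X_pow_mul', if_pos (by omega)]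
    conv_lhs => arg 2; rw [← pr_natDegree (α := α) (d - 2 * r1)]
    exact (pr_monic _).leadingCoeff
  have hp2 : (pr α (d - 2 * r2)).coeff d = if r2 = 0 then 1 else 0 := by
    split_ifs with h
    · subst h
      rw [Nat.mul_zero, Nat.sub_zero]
      conv_lhs => arg 2; rw [← pr_natDegree (α := α) d]
      exact (pr_monic _).leadingCoeff
    · exact coeff_eq_zero_of_natDegree_lt (by rw [pr_natDegree]; omega)
  have hCd : ∀ u : k, (C u).coeff d = 0 := fun u => by rw [coeff_C, if_neg (by omega)]
  have hXd : ∀ u : k, (X ^ d * C u).coeff d = u := fun u => by rw [coeff_mul_C, coeff_X_pow, if_pos rfl, one_mul]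
  have hxr : ∀ (u : k) (j : ℕ), (C u * X ^ j).coeff d = if d = j then u else 0 := fun u j => coeff_C_mul_X_pow u j d
  have h0 : (pr α n).reverse.coeff 0 = 1 := by rw [coeff_zero_reverse, (pr_monic n).leadingCoeff]
  simp only [form_coeff, fixed_coeff, coeff_add, hCd, hXd, coeff_sub, coeff_one, coeff_C_mul_X_pow,
    apply_ite (fun p : k[X] => p.coeff d), hp1, hp2, coeff_zero, hxr, if_neg (show d ≠ r1 by omega),
    if_neg (show d ≠ r1 + 1 by omega), add_zero, ite_self, sub_zero]
  rcases eq_or_ne l 0 with rfl | hl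
  · simp [h0, show ¬ (0 = n + 2) by omega, show ¬ (0 = n + 1) by omega]
  · simp only [if_neg hl, zero_add, sub_zero]
    rcases eq_or_ne l (n + 2) with rfl | h2
    · simp [show ¬ n + 2 = n + 1 by omega]
    · rcases eq_or_ne l (n + 1) with rfl | h1
      · simp only [if_pos, if_neg h2, zero_add]
        by_cases hr : r2 = 0
        · simp [hr, add_comm]
        · simp [hr, show d ≠ d - r2 by omega]
      · simp [h1, h2]

theorem form_top_fib (hr1 : 2 * r1 < d) (hsum : r1 + r2 + 2 ≤ d) :
    fib (flip d (form α n d r1 r2 e c0 c1)).reverse =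
      C (if r2 = 0 then 1 else 0) + C (if r2 = 0 then e else 0) * X + X ^ 2 * pr α n := by
  have h1 : fib (flip d (form α n d r1 r2 e c0 c1)).reverse =
      (C (if r2 = 0 then (1 : k) else 0) * X ^ (n + 2) + C (if r2 = 0 then e else 0) * X ^ (n + 1) +
        (pr α n).reverse).reflect (n + 2) := by
    ext i
    rw [fib_flip_reverse_coeff _ (form_bound hr1) form_natDegree, form_top_coeff hr1 hsum, coeff_reflect]
  rw [h1, reflect_add, reflect_add, reflect_C_mul_X_pow, reflect_C_mul_X_pow, revAt_le (by omega), revAt_le (by omega),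
    Nat.sub_self, show n + 2 - (n + 1) = 1 by omega, pow_zero, pow_one, mul_one,
    reflect_eq_X_pow_mul (r := 2) (by omega) ((reverse_natDegree_le _).trans (by rw [pr_natDegree]; omega)),
    reverse, pr_natDegree, Nat.add_sub_cancel, reflect_reflect]

theorem divX_divX (Q : k[X]) : (X ^ 2 * Q).divX.divX = Q := by
  ext i
  rw [coeff_divX, coeff_divX, show i + 1 + 1 = i + 2 by omega, coeff_X_pow_mul]

theorem edge_bottom (hα : ∀ i, α i ≠ 0) (hinj : Function.Injective α) (hd : r2 < d) (hr : r1 + r2 + 2 ≤ d)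
    (hsep0 : r1 = 0 → (C ((pr α (d - 2 * r1)).eval 0) + C c0 * X +
      X ^ 2 * (C ((pr α (d - 2 * r2)).eval 0) * pr α n)).Separable)
    (hsepq : (C ((pr α (d - 2 * r1)).eval 0) * X ^ 2 + C c0 * X +
      C ((pr α (d - 2 * r2)).eval 0 * (pr α n).coeff 0)).Separable) :
    Edge (form α n d r1 r2 e c0 c1) r1 := by
  have h2 : ((form α n d r1 r2 e c0 c1).coeff 2).eval 0 = (pr α (d - 2 * r2)).eval 0 * (pr α n).coeff 0 := by
    have h := congrArg (fun p : k[X] => p.coeff 2) (form_fib (α := α) (n := n) (e := e) (c0 := c0) (c1 := c1) (r1 := r1) hd)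
    simp only [fib, coeff_map, coeff_add, coeff_C, coeff_C_mul, coeff_X, coeff_X_pow_mul', coe_evalRingHom] at h
    rw [if_neg (show (2 : ℕ) ≠ 0 by omega), if_neg (show ¬ (1 = 2) by omega), if_pos le_rfl, Nat.sub_self, mul_zero,
      add_zero, zero_add] at h
    exact h
  refine ⟨by rw [form_natDegree]; omega, ?_, fun h => ?_, fun h => ?_⟩
  · rw [form_lead, ← coeff_zero_eq_eval_zero]; exact pr_coeff_zero hα _
  · rw [form_fib hd, if_pos h]
    convert hsep0 h using 4
    subst h; simp
  · refine ⟨pr α (d - 2 * r1), C c0 + C c1 * X +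
      (if n = 0 then C e * X ^ (d - r2 - r1) else 0) + X ^ (d - r1) * C (((pr α n).reverse - 1).coeff 1),
      form_coeff_zero, ?_, by rw [← coeff_zero_eq_eval_zero]; exact pr_coeff_zero hα _, ?_, ?_, ?_⟩
    · rw [form_coeff, fixed_coeff]
      simp only [if_neg (show ¬ 2 ≤ 1 by omega), if_neg (show 1 ≠ 0 by omega), if_neg (show 1 ≠ n + 2 by omega),
        C_0, zero_add, add_zero, if_pos]
      have e1 : (X : k[X]) ^ r1 * X ^ (d - r1) = X ^ d := by rw [← pow_add]; congr 1; omega
      split_ifs with h1 h3 h3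
      · by_cases hle : r1 ≤ d - r2
        · have e2 : (X : k[X]) ^ r1 * X ^ (d - r2 - r1) = X ^ (d - r2) := by rw [← pow_add]; congr 1; omega
          linear_combination (-C (((pr α n).reverse - 1).coeff 1)) * e1 - C e * e2
        · omega
      · omega
      · omega
      · linear_combination (-C (((pr α n).reverse - 1).coeff 1)) * e1
    · rw [form_fib hd, if_neg h.ne', eval_mul, eval_pow, eval_X, zero_pow (by omega), zero_mul]
      simp only [C_0, zero_mul, zero_add, divX_divX]
      exact Separable.unit_mul (isUnit_C.2 (isUnit_iff_ne_zero.2 (by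
        rw [← coeff_zero_eq_eval_zero]; exact pr_coeff_zero hα _))) (pr_separable hinj n)
    · rw [h2]
      exact mul_ne_zero (by rw [← coeff_zero_eq_eval_zero]; exact pr_coeff_zero hα _) (pr_coeff_zero hα _)
    · rw [h2]
      convert hsepq using 4
      simp only [eval_add, eval_mul, eval_pow, eval_X, eval_C, mul_zero, add_zero, zero_mul,
        zero_pow (show d - r1 ≠ 0 by omega)]
      split_ifs with hn
      · rcases Nat.eq_zero_or_pos (d - r2 - r1) with h0 | h0
        · omega
        · simp [zero_pow h0.ne']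
      · simp

theorem edge_top (hα : ∀ i, α i ≠ 0) (hinj : Function.Injective α) (hr1 : 2 * r1 < d) (hr2 : 2 * r2 < d)
    (hsum : r1 + r2 + 2 ≤ d)
    (hsep0 : r2 = 0 → (C 1 + C e * X + X ^ 2 * pr α n).Separable)
    (hsepq : (C 1 * X ^ 2 + C e * X + C ((pr α n).coeff 0)).Separable) :
    Edge (flip d (form α n d r1 r2 e c0 c1)).reverse r2 := by
  set G := form α n d r1 r2 e c0 c1 with hG
  have hc0 : G.coeff 0 ≠ 0 := by
    rw [hG, form_coeff_zero]; exact mul_ne_zero (pow_ne_zero _ X_ne_zero) (pr_monic _).ne_zero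
  have hfc : (flip d G).coeff 0 ≠ 0 := by rwa [coeff_flip, Ne, reflect_eq_zero_iff]
  have hdeg : (flip d G).reverse.natDegree = n + 2 := by
    rw [natDegree_reverse hfc, natDegree_flip, hG, form_natDegree]
  have hco : ∀ i ≤ n + 2, (flip d G).reverse.coeff i = (G.coeff (n + 2 - i)).reflect d := fun i hi => by
    rw [coeff_reverse, natDegree_flip, hG, form_natDegree, revAt_le hi, coeff_flip]
  have h2 : ((flip d G).reverse.coeff 2).eval 0 = (pr α n).coeff 0 := by
    have h := congrArg (fun p : k[X] => p.coeff 2)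
      (form_top_fib (α := α) (n := n) (e := e) (c0 := c0) (c1 := c1) hr1 hsum)
    rw [← hG] at h
    simp only [fib, coeff_map, coeff_add, coeff_C, coeff_C_mul, coeff_X, coeff_X_pow_mul', coe_evalRingHom] at h
    rw [if_neg (show (2 : ℕ) ≠ 0 by omega), if_neg (show ¬ (1 = 2) by omega), if_pos le_rfl, Nat.sub_self, mul_zero,
      add_zero, zero_add] at h
    exact h
  refine ⟨by rw [hdeg]; omega, ?_, fun h => ?_, fun h => ?_⟩
  · have hl : (flip d G).reverse.leadingCoeff = (G.coeff 0).reflect d := by
      rw [leadingCoeff, hdeg, hco _ le_rfl, Nat.sub_self]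
    rw [hl, ← coeff_zero_eq_eval_zero, coeff_reflect, revAt_le (Nat.zero_le _), Nat.sub_zero, hG, form_coeff_zero,
      coeff_X_pow_mul', if_pos (by omega)]
    conv_lhs => arg 2; rw [← pr_natDegree (α := α) (d - 2 * r1)]
    rw [(pr_monic _).coeff_natDegree]
    exact one_ne_zero
  · rw [hG, form_top_fib hr1 hsum, if_pos h, if_pos h]
    exact hsep0 h
  · refine ⟨(pr α (d - 2 * r2)).reflect (d - 2 * r2), (G.coeff (n + 1)).reflect (d - r2), ?_, ?_, ?_, ?_, ?_, ?_⟩
    · rw [hco 0 (Nat.zero_le _), Nat.sub_zero, hG, form_coeff_top,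
        reflect_eq_X_pow_mul (r := 2 * r2) (by omega) (pr_natDegree _).le]
    · rw [hco 1 (by omega), show n + 2 - 1 = n + 1 by omega, reflect_eq_X_pow_mul (r := r2) (by omega) ?_]
      rw [hG, form_coeff, fixed_coeff, coeff_eq_zero_of_natDegree_lt (lt_of_le_of_lt natDegree_rev_sub_one (by omega))]
      simp only [if_neg (show n + 1 ≠ 0 by omega), if_neg (show n + 1 ≠ n + 2 by omega), C_0, mul_zero, if_pos,
        zero_add, add_zero]
      refine (natDegree_add_le _ _).trans (max_le ((natDegree_add_le _ _).trans (max_le ?_ ?_)) ?_)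
      · rw [natDegree_C]; omega
      · exact natDegree_C_mul_X_pow_le _ _
      · split_ifs
        · exact (natDegree_add_le _ _).trans (max_le ((natDegree_C_mul_X_pow_le _ _).trans (by omega))
            ((natDegree_C_mul_X_pow_le _ _).trans (by omega)))
        · simp
    · rw [← coeff_zero_eq_eval_zero, coeff_reflect, revAt_le (Nat.zero_le _), Nat.sub_zero]
      conv_lhs => arg 2; rw [← pr_natDegree (α := α) (d - 2 * r2)]
      rw [(pr_monic _).coeff_natDegree]
      exact one_ne_zero
    · rw [hG, form_top_fib hr1 hsum, if_neg h.ne', if_neg h.ne']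
      simp only [C_0, zero_mul, zero_add, divX_divX]
      exact pr_separable hinj n
    · rw [h2]; exact pr_coeff_zero hα _
    · rw [h2]
      convert hsepq using 5
      · rw [← coeff_zero_eq_eval_zero, coeff_reflect, revAt_le (Nat.zero_le _), Nat.sub_zero]
        conv_lhs => arg 2; rw [← pr_natDegree (α := α) (d - 2 * r2)]
        exact (pr_monic _).coeff_natDegree
      · rw [← coeff_zero_eq_eval_zero, coeff_reflect, revAt_le (Nat.zero_le _), Nat.sub_zero, hG, form_coeff,
          fixed_coeff, coeff_eq_zero_of_natDegree_lt (lt_of_le_of_lt natDegree_rev_sub_one (by omega))]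
        simp only [if_neg (show n + 1 ≠ 0 by omega), if_neg (show n + 1 ≠ n + 2 by omega), C_0, mul_zero, if_pos,
          zero_add, add_zero, coeff_add, coeff_C, if_neg (show d - r2 ≠ 0 by omega), coeff_C_mul, coeff_X_pow, mul_one]
        split_ifs
        · simp [coeff_X_pow, show d - r2 ≠ r1 by omega, show d - r2 ≠ r1 + 1 by omega]
        · simp

/-- The `y`-derivative, coefficientwise. -/
noncomputable def dY (P : (k[X])[X]) : (k[X])[X] :=
  ∑ i ∈ Finset.range (P.natDegree + 1), C (derivative (P.coeff i)) * X ^ i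

theorem evPt_dY (a b : k) (P : (k[X])[X]) : evPt a b (dY P) = dyAt a b P := by
  rw [dY, map_sum, dyAt, eval_eq_sum_range (p := P), derivative_sum, eval_finsetSum]
  refine Finset.sum_congr rfl fun i _ => ?_
  rw [map_mul, map_pow, evPt_C, evPt_X, ← C_pow, derivative_mul, derivative_C, mul_zero, add_zero, eval_mul, eval_C]

theorem smoothOff_form (hinj : Function.Injective α)
    (Φ : (k[X])[X])
    (hΦ : ∀ a b : k,
      evPt a b (fixedPart α n d r1 r2 e - X * derivative (fixedPart α n d r1 r2 e)) = 0 →
      evPt a b (X * C (X ^ (r1 + 1))) ≠ 0 →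
      evPt (evPt a b (C X * (-(C (C ((r1 : k) + 1))) * (X * derivative (fixedPart α n d r1 r2 e)) +
          C X * dY (fixedPart α n d r1 r2 e))) / evPt a b (X * C (X ^ (r1 + 1))))
        (evPt a b (C (C (r1 : k)) * (X * derivative (fixedPart α n d r1 r2 e)) -
          C X * dY (fixedPart α n d r1 r2 e)) / evPt a b (X * C (X ^ (r1 + 1)))) Φ = 0)
    (hc : evPt c0 c1 Φ ≠ 0) : SmoothOff (form α n d r1 r2 e c0 c1) := by
  intro a b hb h0
  rcases eq_or_ne a 0 with rfl | ha
  · refine Or.inr ?_
    rw [evPt_eq, C_0, ← coeff_zero_eq_eval_zero, form_coeff_zero, eval_mul, eval_pow, eval_X, mul_eq_zero] at h0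
    have h0' := h0.resolve_left (pow_ne_zero _ hb)
    rw [dyAt, C_0, ← coeff_zero_eq_eval_zero, form_coeff_zero, derivative_mul, eval_add, eval_mul, eval_mul, h0',
      mul_zero, zero_add, eval_pow, eval_X]
    exact mul_ne_zero (pow_ne_zero _ hb) (pr_simple hinj _ h0')
  by_contra hsing
  push Not at hsing
  obtain ⟨hx, hy⟩ := hsing
  simp only [form, map_add, map_mul, evPt_X, evPt_C, eval_add, eval_mul, eval_C, eval_pow, eval_X, derivative_add,
    derivative_mul, derivative_X, derivative_C, map_zero, map_one, mul_zero, zero_mul, add_zero, zero_add, one_mul] at h0 hx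
  simp only [dyAt, form, eval_add, eval_mul, eval_X, eval_C, derivative_add, derivative_mul, derivative_C,
    derivative_X_pow, eval_pow, zero_mul, zero_add, Nat.add_sub_cancel] at hy
  have hK : evPt a b (fixedPart α n d r1 r2 e - X * derivative (fixedPart α n d r1 r2 e)) = 0 := by
    rw [map_sub, map_mul, evPt_X]
    linear_combination h0 - a * hx
  have hD : evPt a b (X * C (X ^ (r1 + 1))) ≠ 0 := by
    rw [map_mul, evPt_X, evPt_C, eval_pow, eval_X]; exact mul_ne_zero ha (pow_ne_zero _ hb)
  have hy0 : evPt a b (dY (fixedPart α n d r1 r2 e)) = dyAt a b (fixedPart α n d r1 r2 e) := evPt_dY a b _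
  have hrpow : (r1 : k) * b ^ (r1 - 1) * b = r1 * b ^ r1 := by
    rcases r1 with _ | r
    · simp
    · rw [Nat.add_sub_cancel, pow_succ]; ring
  simp only [dyAt] at hy0
  refine hc ?_
  convert hΦ a b hK hD using 2
  · congr 1
    · simp only [map_mul, map_add, map_neg, evPt_X, evPt_C, eval_X, eval_C, eval_pow, hy0]
      rw [eq_div_iff (mul_ne_zero ha (pow_ne_zero _ hb))]
      push_cast at hy ⊢
      linear_combination a * ((r1 : k) + 1) * b * hx - b * b * hy + b * a * c0 * hrpow
    · simp only [map_mul, map_sub, evPt_X, evPt_C, eval_X, eval_C, eval_pow, hy0]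
      rw [eq_div_iff (mul_ne_zero ha (pow_ne_zero _ hb))]
      push_cast at hy ⊢
      linear_combination -(a * (r1 : k)) * hx + b * hy - a * c0 * hrpow

/-- A form giving genus `(m-1)(d-1) - (r1 + r2)`. -/
theorem exists_good [IsAlgClosed k] (n d r1 r2 : ℕ) (hr1 : 2 * r1 < d) (hr2 : 2 * r2 < d) (hsum : r1 + r2 + 2 ≤ d) :
    ∃ G : (k[X])[X], G.natDegree = n + 2 ∧ G.IsPrimitive ∧ Good G d r1 r2 := by
  classical
  haveI : Infinite k := IsAlgClosed.instInfinite
  have : Infinite {x : k // x ≠ 0} := Set.infinite_coe_iff.2 (Set.finite_singleton (0 : k)).infinite_compl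
  let α : ℕ → k := fun i => (Infinite.natEmbedding {x : k // x ≠ 0} i).1
  have hα : ∀ i, α i ≠ 0 := fun i => (Infinite.natEmbedding {x : k // x ≠ 0} i).2
  have hinj : Function.Injective α := fun i j h =>
    (Infinite.natEmbedding {x : k // x ≠ 0}).injective (Subtype.ext h)
  have hev : ∀ L, (pr α L).eval 0 ≠ 0 := fun L => by rw [← coeff_zero_eq_eval_zero]; exact pr_coeff_zero hα L
  obtain ⟨e, he⟩ := ((finite_not_separable (C 1 + X ^ 2 * pr α n) (by simp)).union
    (finite_not_separable (C 1 * X ^ 2 + C ((pr α n).coeff 0)) (by simpa using pr_coeff_zero hα n))).exists_notMem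
  simp only [Set.mem_union, Set.mem_ofPred_eq, not_or, not_not] at he
  set H := fixedPart α n d r1 r2 e with hH
  have hK : H - X * derivative H ≠ 0 := fun h => by
    have := congrArg (fun p : (k[X])[X] => p.coeff 0) h
    simp only [coeff_sub, coeff_X_mul_zero, sub_zero, coeff_zero] at this
    rw [hH, fixed_coeff, rev_sub_one_coeff_zero] at this
    simp [(pr_monic _).ne_zero] at this
  obtain ⟨Φ, hΦ0, hΦ⟩ := exists_dependence _
    (C X * (-(C (C ((r1 : k) + 1))) * (X * derivative H) + C X * dY H))
    (C (C (r1 : k)) * (X * derivative H) - C X * dY H) (X * C (X ^ (r1 + 1))) hK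
  let Ψ : k[X] := (Bivariate.swap Φ).leadingCoeff
  have hΨ : Ψ ≠ 0 := leadingCoeff_ne_zero.2 (by simpa using hΦ0)
  obtain ⟨c0, hc0, hc0Ψ⟩ := exists_not_mem
    ((finite_not_separable (C ((pr α (d - 2 * r1)).eval 0) + X ^ 2 * (C ((pr α (d - 2 * r2)).eval 0) * pr α n))
      (by simpa [← coeff_zero_eq_eval_zero] using pr_coeff_zero hα (d - 2 * r1))).union
    (finite_not_separable (C ((pr α (d - 2 * r1)).eval 0) * X ^ 2 +
      C ((pr α (d - 2 * r2)).eval 0 * (pr α n).coeff 0))
      (by simp only [coeff_add, coeff_C_mul, coeff_X_pow, coeff_C_zero]; simpa using And.intro (hev _) (pr_coeff_zero hα n))))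
    Ψ hΨ
  simp only [Set.mem_union, Set.mem_ofPred_eq, not_or, not_not] at hc0
  have hmap : (Bivariate.swap Φ).map (evalRingHom c0) ≠ 0 := fun h => hc0Ψ (by
    have := congrArg (fun p : k[X] => p.coeff (Bivariate.swap Φ).natDegree) h
    rw [coeff_map, coeff_zero, coe_evalRingHom] at this
    exact this)
  obtain ⟨c1, -, hc1⟩ := exists_not_mem Set.finite_empty _ hmap
  have hc : evPt c0 c1 Φ ≠ 0 := by
    have hsw : ∀ P : (k[X])[X], ((Bivariate.swap P).map (evalRingHom c0)).eval c1 = evPt c0 c1 P := by
      intro P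
      induction P using Polynomial.induction_on' with
      | add p q hp hq => simp [hp, hq]
      | monomial i a =>
        induction a using Polynomial.induction_on' with
        | add a b ha hb => rw [map_add, map_add]; simp [ha, hb]
        | monomial j c =>
          rw [Bivariate.swap_monomial_monomial]
          simp [evPt]
          ring
    rwa [← hsw]
  set G := form α n d r1 r2 e c0 c1 with hG
  have hb : ∀ i, (G.coeff i).natDegree ≤ d := form_bound hr1
  have hsm : SmoothOff G := smoothOff_form hinj Φ hΦ hc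
  have hlead0 : ∀ L (b : k), b ≠ 0 → (pr α L).eval b = 0 → (derivative (pr α L)).eval b ≠ 0 :=
    fun L b _ h => pr_simple hinj L h
  have hsmr : SmoothOff G.reverse := smoothOff_reverse G hsm (by rw [hG, form_lead]; exact hlead0 _)
  have hedge : Edge G r1 := edge_bottom hα hinj (by omega) hsum (fun h => by
      have := hc0.1; convert this using 1; ring) (by have := hc0.2; convert this using 1; ring)
  have hedge' : Edge (flip d G).reverse r2 := edge_top hα hinj hr1 hr2 hsum (fun h => by
      have := he.1; convert this using 1; ring) (by have := he.2; convert this using 1; ring)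
  have hc00 : G.coeff 0 ≠ 0 := by
    rw [hG, form_coeff_zero]; exact mul_ne_zero (pow_ne_zero _ X_ne_zero) (pr_monic _).ne_zero
  have hflrev : (flip d G).reverse = flip d G.reverse := by
    ext1 i
    rw [coeff_reverse, natDegree_flip, coeff_flip, coeff_flip, coeff_reverse]
  have hprim : G.IsPrimitive := by
    intro r hr
    rw [C_dvd_iff_dvd_coeff] at hr
    by_contra hu
    have hrne : r ≠ 0 := fun h => hc00 (zero_dvd_iff.1 (h ▸ hr 0))
    obtain ⟨b, hb0⟩ := IsAlgClosed.exists_root r (fun h => hu (isUnit_iff_degree_eq_zero.2 h))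
    have hall : ∀ i, (G.coeff i).eval b = 0 := fun i => by
      have := eval_dvd (x := b) (hr i)
      rwa [show r.eval b = 0 from hb0, zero_dvd_iff] at this
    rcases eq_or_ne b 0 with rfl | hbne
    · exact hedge.lead (hall G.natDegree)
    · have hz : ∀ a, evPt a b G = 0 ∧ evPt a b (derivative G) = 0 := fun a => by
        constructor
        · rw [evPt, coe_eval₂RingHom, eval₂_eq_sum_range]
          simp [hall]
        · rw [evPt, coe_eval₂RingHom, eval₂_eq_sum_range]
          simp [coeff_derivative, hall]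
      let T : k[X] := (dY G).map (evalRingHom b)
      have hT : T.coeff (n + 2) ≠ 0 := by
        rw [coeff_map, dY, finsetSum_coeff, Finset.sum_eq_single_of_mem (n + 2)
          (Finset.mem_range.2 (by rw [hG, form_natDegree]; omega))
          (fun i _ hi => by rw [coeff_C_mul_X_pow, if_neg hi.symm]), coeff_C_mul_X_pow, if_pos rfl, coe_evalRingHom,
          hG, form_coeff_top]
        exact pr_simple hinj _ (by rw [← form_coeff_top (α := α) (n := n) (e := e) (c0 := c0) (c1 := c1) (r1 := r1)]; exact hall _)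
      obtain ⟨a, ha⟩ := IsAlgClosed.exists_root T fun h => by
        have hle := le_degree_of_ne_zero hT
        rw [h] at hle
        exact absurd (by exact_mod_cast hle : n + 2 ≤ 0) (by omega)
      rcases hsm a b hbne (hz a).1 with h | h
      · exact h (hz a).2
      · refine h ?_
        rw [← evPt_dY, evPt, coe_eval₂RingHom, ← eval_map]
        exact ha
  refine ⟨G, form_natDegree, hprim, ?_⟩
  constructor
  · exact ⟨by rw [hG, form_natDegree]; omega, hc00, hb, by
      rw [hG, form_coeff_zero, natDegree_mul (pow_ne_zero _ X_ne_zero) (pr_monic _).ne_zero, natDegree_X_pow,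
        pr_natDegree]; omega, hsum, hsm, hsmr, smoothOff_flip hb hsm, by
      rw [hflrev]
      exact smoothOff_flip (fun i => by rw [coeff_reverse]; exact hb _) hsmr, branches hedge, branches hedge', by
      rcases Nat.eq_zero_or_pos r2 with h | h
      · rw [h, pow_zero]; exact one_dvd _
      · obtain ⟨c, b, -, hb', -⟩ := hedge'.corner h
        exact ⟨b, hb'⟩⟩
  · rw [hG, form_coeff_zero]; exact dvd_mul_right _ _
  · rcases Nat.eq_zero_or_pos r1 with h | h
    · rw [h, pow_zero]; exact one_dvd _
    · obtain ⟨c, b, -, hb', -⟩ := hedge.corner h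
      exact ⟨b, hb'⟩
  · rcases Nat.eq_zero_or_pos r2 with h | h
    · simp [h]
    · obtain ⟨c, b, hc', -⟩ := hedge'.corner h
      exact ⟨c, hc'⟩

end Groth.Agent.CurvFam16.Gonal
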