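import Groth.Agent.CurvFam16.Gonal.Normal
import Mathlib.FieldTheory.Separable
import Mathlib.FieldTheory.IsAlgClosed.Basic
import Mathlib.LinearAlgebra.Dimension.Constructions

/-! Avoidance lemmas for choosing a general form. -/

set_option linter.style.haveILetI false
set_option backward.isDefEq.respectTransparency false

namespace Groth.Agent.CurvFam16.Gonal

open Polynomial

variable {k : Type*} [Field k]

theorem evPt_X_pow_mul (a b : k) (i j : ℕ) :
    evPt a b ((X : (k[X])[X]) ^ i * C ((X : k[X]) ^ j)) = a ^ i * b ^ j := by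
  rw [map_mul, map_pow, evPt_X, evPt_C, eval_pow, eval_X]

theorem finite_not_separable [IsAlgClosed k] (H : k[X]) (h0 : H.coeff 0 ≠ 0) :
    {t : k | ¬ (H + C t * X).Separable}.Finite := by
  classical
  have hne : H - X * derivative H ≠ 0 := fun h => h0 (by
    simpa using congrArg (fun p : k[X] => p.coeff 0) h)
  refine (((H - X * derivative H).roots.toFinset).image fun a => -(derivative H).eval a).finite_toSet.subset ?_
  intro t ht
  simp only [Set.mem_setOf_eq, separable_def, isCoprime_iff_aeval_ne_zero_of_isAlgClosed (k := k) k] at ht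
  push Not at ht
  obtain ⟨a, ha, ha'⟩ := ht
  rw [coe_aeval_eq_eval] at ha ha'
  simp only [derivative_add, derivative_mul, derivative_C, derivative_X, zero_mul, zero_add, mul_one,
    eval_add, eval_mul, eval_C, eval_X] at ha ha'
  rw [Finset.coe_image]
  refine ⟨a, ?_, by linear_combination -ha'⟩
  rw [Finset.mem_coe, Multiset.mem_toFinset, mem_roots hne, IsRoot]
  simp only [eval_sub, eval_mul, eval_X]
  linear_combination ha - a * ha'

/-- A polynomial with coefficients in the box of size `L`. -/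
noncomputable def boxPoly (L : ℕ) : (Fin (L + 1) × Fin (L + 1) → k) →ₗ[k] (k[X])[X] where
  toFun c := ∑ p : Fin (L + 1) × Fin (L + 1), c p • ((X : (k[X])[X]) ^ (p.1 : ℕ) * C ((X : k[X]) ^ (p.2 : ℕ)))
  map_add' c c' := by simp [add_smul, Finset.sum_add_distrib]
  map_smul' a c := by simp [Finset.smul_sum, smul_smul]

theorem boxPoly_coeff (L : ℕ) (c : Fin (L + 1) × Fin (L + 1) → k) (q : Fin (L + 1) × Fin (L + 1)) :
    ((boxPoly L c).coeff q.1).coeff q.2 = c q := by
  simp only [boxPoly, LinearMap.coe_mk, AddHom.coe_mk, finsetSum_coeff]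
  rw [Finset.sum_eq_single q]
  · rw [mul_comm ((X : (k[X])[X]) ^ _), coeff_smul, coeff_smul, coeff_C_mul_X_pow, if_pos rfl, coeff_X_pow,
      if_pos rfl, smul_eq_mul, mul_one]
  · intro p _ hp
    rw [mul_comm ((X : (k[X])[X]) ^ _), coeff_smul, coeff_smul, coeff_C_mul_X_pow]
    split_ifs with h1
    · rw [coeff_X_pow, if_neg fun h2 => hp (Prod.ext (Fin.ext h1.symm) (Fin.ext h2.symm)), smul_zero]
    · simp
  · intro h
    exact absurd (Finset.mem_univ q) h

theorem boxPoly_bounds (L : ℕ) (c : Fin (L + 1) × Fin (L + 1) → k) :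
    (boxPoly L c).natDegree ≤ L ∧ ∀ i, ((boxPoly L c).coeff i).natDegree ≤ L := by
  constructor
  · refine natDegree_sum_le_of_forall_le _ _ fun p _ => (natDegree_smul_le _ _).trans ?_
    rw [mul_comm]
    exact (natDegree_C_mul_X_pow_le _ _).trans (by omega)
  · intro i
    simp only [boxPoly, LinearMap.coe_mk, AddHom.coe_mk, finsetSum_coeff]
    refine natDegree_sum_le_of_forall_le _ _ fun p _ => ?_
    rw [mul_comm ((X : (k[X])[X]) ^ _), coeff_smul, coeff_C_mul_X_pow]
    refine (natDegree_smul_le _ _).trans ?_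
    split_ifs
    · rw [natDegree_X_pow]; omega
    · simp

/-- Degree bound in both variables. -/
def Bdd (e : ℕ) (P : (k[X])[X]) : Prop := P.natDegree ≤ e ∧ ∀ i, (P.coeff i).natDegree ≤ e

theorem Bdd.mul {e e' : ℕ} {P Q : (k[X])[X]} (hP : Bdd e P) (hQ : Bdd e' Q) : Bdd (e + e') (P * Q) := by
  refine ⟨natDegree_mul_le.trans (add_le_add hP.1 hQ.1), fun i => ?_⟩
  rw [coeff_mul]
  exact natDegree_sum_le_of_forall_le _ _ fun p _ => natDegree_mul_le.trans (add_le_add (hP.2 _) (hQ.2 _))

theorem Bdd.pow {e : ℕ} {P : (k[X])[X]} (hP : Bdd e P) : ∀ n, Bdd (n * e) (P ^ n) := by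
  intro n
  induction n with
  | zero =>
    refine ⟨by simp, fun i => ?_⟩
    rw [pow_zero, coeff_one]
    split_ifs <;> simp
  | succ n ih => rw [pow_succ, Nat.succ_mul]; exact ih.mul hP

theorem Bdd.mono {e e' : ℕ} {P : (k[X])[X]} (hP : Bdd e P) (h : e ≤ e') : Bdd e' P :=
  ⟨hP.1.trans h, fun i => (hP.2 i).trans h⟩

theorem exists_bdd (P : (k[X])[X]) : ∃ e, Bdd e P :=
  ⟨max P.natDegree ((Finset.range (P.natDegree + 1)).sup fun i => (P.coeff i).natDegree),
    le_max_left _ _, fun i => by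
      by_cases hi : i ≤ P.natDegree
      · exact (Finset.le_sup (f := fun i => (P.coeff i).natDegree) (Finset.mem_range.2 (by omega))).trans
          (le_max_right _ _)
      · simp [coeff_eq_zero_of_natDegree_lt (not_le.1 hi)]⟩

/-- Two rational functions on a curve are algebraically dependent. -/
theorem exists_dependence (H0 P0 P1 D : (k[X])[X]) (hH : H0 ≠ 0) :
    ∃ Φ : (k[X])[X], Φ ≠ 0 ∧ ∀ a b : k, evPt a b H0 = 0 → evPt a b D ≠ 0 →
      evPt (evPt a b P0 / evPt a b D) (evPt a b P1 / evPt a b D) Φ = 0 := by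
  obtain ⟨eH, hbH⟩ := exists_bdd H0
  obtain ⟨e0, he0⟩ := exists_bdd P0
  obtain ⟨e1, he1⟩ := exists_bdd P1
  obtain ⟨eD, heD⟩ := exists_bdd D
  let e := e0 + e1 + eD + 1
  have hP0 : Bdd e P0 := he0.mono (by omega)
  have hP1 : Bdd e P1 := he1.mono (by omega)
  have hD : Bdd e D := heD.mono (by omega)
  let N := 2 * eH * (2 * e + 1) + 2 * eH + 1
  let L := 2 * N * e
  have hLH : eH ≤ L := by
    have : N ≤ L := by
      show N ≤ 2 * N * e
      calc N ≤ N * (2 * e) := Nat.le_mul_of_pos_right N (by omega)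
        _ = 2 * N * e := by ring
    have : 2 * eH + 1 ≤ N := by simp only [N]; omega
    omega
  let T : ((Fin (N + 1) × Fin (N + 1) → k) × (Fin (L - eH + 1) × Fin (L - eH + 1) → k)) →ₗ[k] (k[X])[X] :=
    LinearMap.coprod
      { toFun := fun c => ∑ p : Fin (N + 1) × Fin (N + 1),
          c p • (P0 ^ (p.1 : ℕ) * P1 ^ (p.2 : ℕ) * D ^ (2 * N - p.1 - p.2))
        map_add' := fun c c' => by simp [add_smul, Finset.sum_add_distrib]
        map_smul' := fun a c => by simp [Finset.smul_sum, smul_smul] }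
      (-(LinearMap.mulLeft k H0).comp (boxPoly (L - eH)))
  let cf : (k[X])[X] →ₗ[k] (Fin (L + 1) × Fin (L + 1) → k) :=
    { toFun := fun P q => (P.coeff q.1).coeff q.2
      map_add' := fun P Q => by ext q; simp
      map_smul' := fun a P => by ext q; simp }
  have hTbdd : ∀ v, Bdd L (T v) := by
    rintro ⟨c, h⟩
    simp only [T, LinearMap.coprod_apply, LinearMap.neg_apply, LinearMap.comp_apply, LinearMap.mulLeft_apply,
      LinearMap.coe_mk, AddHom.coe_mk]
    have h1 : Bdd L (∑ p : Fin (N + 1) × Fin (N + 1),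
        c p • (P0 ^ (p.1 : ℕ) * P1 ^ (p.2 : ℕ) * D ^ (2 * N - p.1 - p.2))) := by
      have hterm : ∀ p : Fin (N + 1) × Fin (N + 1), Bdd L
          (c p • (P0 ^ (p.1 : ℕ) * P1 ^ (p.2 : ℕ) * D ^ (2 * N - p.1 - p.2))) := fun p => by
        have hb := (((hP0.pow (p.1 : ℕ)).mul (hP1.pow (p.2 : ℕ))).mul (hD.pow (2 * N - p.1 - p.2))).mono (e' := L) (by
          show _ ≤ 2 * N * e
          rw [← Nat.add_mul, ← Nat.add_mul]
          exact Nat.mul_le_mul_right e (by have := p.1.2; have := p.2.2; omega))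
        exact ⟨(natDegree_smul_le _ _).trans hb.1, fun i => by
          rw [coeff_smul]; exact (natDegree_smul_le _ _).trans (hb.2 i)⟩
      exact ⟨natDegree_sum_le_of_forall_le _ _ fun p _ => (hterm p).1, fun i => by
        rw [finsetSum_coeff]; exact natDegree_sum_le_of_forall_le _ _ fun p _ => (hterm p).2 i⟩
    have h2 : Bdd L (H0 * boxPoly (L - eH) h) :=
      (hbH.mul (boxPoly_bounds (L - eH) h)).mono (by omega)
    refine ⟨(natDegree_add_le _ _).trans (max_le h1.1 (by rw [natDegree_neg]; exact h2.1)), fun i => ?_⟩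
    rw [coeff_add, coeff_neg]
    exact (natDegree_add_le _ _).trans (max_le (h1.2 i) (by rw [natDegree_neg]; exact h2.2 i))
  obtain ⟨⟨c, h⟩, hker, hne⟩ : ∃ v, cf.comp T v = 0 ∧ v ≠ 0 := by
    by_contra! hinj
    have hle := LinearMap.finrank_le_finrank_of_injective (f := cf.comp T)
      ((injective_iff_map_eq_zero _).2 hinj)
    simp only [Module.finrank_prod, Module.finrank_fintype_fun_eq_card, Fintype.card_prod, Fintype.card_fin] at hle
    obtain ⟨M, hM⟩ : ∃ M, L = eH + M := ⟨L - eH, by omega⟩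
    rw [hM, Nat.add_sub_cancel_left] at hle
    have h1 : 2 * eH * (L + 1) < (N + 1) * (N + 1) := by
      calc 2 * eH * (L + 1) ≤ 2 * eH * ((2 * e + 1) * N) := by
            refine Nat.mul_le_mul_left _ ?_
            have : 1 ≤ N := by simp only [N]; omega
            show 2 * N * e + 1 ≤ _
            nlinarith
        _ = (2 * eH * (2 * e + 1)) * N := by ring
        _ ≤ N * N := Nat.mul_le_mul_right _ (by simp only [N]; omega)
        _ < _ := by nlinarith
    rw [hM] at h1
    nlinarith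
  have hTz : T (c, h) = 0 := by
    ext i j
    by_cases hi : i ≤ L
    · by_cases hj : j ≤ L
      · exact congrFun hker (⟨i, by omega⟩, ⟨j, by omega⟩)
      · rw [coeff_eq_zero_of_natDegree_lt (((hTbdd _).2 i).trans_lt (not_le.1 hj)), coeff_zero, coeff_zero]
    · rw [coeff_eq_zero_of_natDegree_lt ((hTbdd _).1.trans_lt (not_le.1 hi))]
      simp
  simp only [T, LinearMap.coprod_apply, LinearMap.neg_apply, LinearMap.comp_apply, LinearMap.mulLeft_apply,
    LinearMap.coe_mk, AddHom.coe_mk] at hTz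
  refine ⟨boxPoly N c, fun h0 => hne ?_, fun a b hH0 hD0 => ?_⟩
  · have hc : c = 0 := funext fun q => by rw [← boxPoly_coeff N c q, h0]; simp
    subst hc
    simp only [Pi.zero_apply, zero_smul, Finset.sum_const_zero, zero_add, neg_eq_zero, mul_eq_zero, hH,
      false_or] at hTz
    have : h = 0 := funext fun q => by rw [← boxPoly_coeff _ h q, hTz]; simp
    simp [this]
  · have h1 := congrArg (evPt a b) (eq_of_sub_eq_zero (by rw [sub_eq_add_neg]; exact hTz))
    rw [map_mul, hH0, zero_mul, map_sum] at h1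
    refine (mul_eq_zero.1 (?_ : evPt a b D ^ (2 * N) *
      evPt (evPt a b P0 / evPt a b D) (evPt a b P1 / evPt a b D) (boxPoly N c) = 0)).resolve_left
      (pow_ne_zero _ hD0)
    simp only [boxPoly, LinearMap.coe_mk, AddHom.coe_mk, map_sum, Finset.mul_sum]
    rw [← h1]
    refine Finset.sum_congr rfl fun p _ => ?_
    have hs : ∀ (a b : k) (r : k) (P : (k[X])[X]), evPt a b (r • P) = r * evPt a b P := fun a b r P => by
      rw [Algebra.smul_def, map_mul, show algebraMap k (k[X])[X] r = C (C r) from rfl, evPt_C, eval_C]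
    rw [hs, hs, evPt_X_pow_mul, map_mul, map_mul, map_pow, map_pow, map_pow]
    obtain ⟨l, hl⟩ : ∃ l, 2 * N = l + p.1 + p.2 := ⟨2 * N - p.1 - p.2, by have := p.1.2; have := p.2.2; omega⟩
    rw [hl, show l + (p.1 : ℕ) + p.2 - p.1 - p.2 = l by omega, pow_add, pow_add, div_pow, div_pow]
    field_simp

theorem exists_not_mem [Infinite k] {s : Set k} (hs : s.Finite) (p : k[X]) (hp : p ≠ 0) :
    ∃ t, t ∉ s ∧ p.eval t ≠ 0 := by
  obtain ⟨t, ht⟩ := (hs.union (finite_setOf_isRoot hp)).exists_notMem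
  exact ⟨t, fun h => ht (Or.inl h), fun h => ht (Or.inr h)⟩

end Groth.Agent.CurvFam16.Gonal
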