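import Groth.Agent.CurvFam16.Gonal.Lattice
import Mathlib.RingTheory.Artinian.Ring
import Mathlib.FieldTheory.IsAlgClosed.Basic

/-! The two charts of the `y`-line: global elements. -/

set_option linter.style.haveILetI false
set_option backward.isDefEq.respectTransparency false

namespace Groth.Agent.CurvFam16.Gonal

open Polynomial

variable {k K : Type*} [Field k] [CommRing K] {G : (k[X])[X]} {φ : k[X] →+* K} {x : K}

/-- `y^N G(1/y)`, coefficientwise. -/
noncomputable def flip (N : ℕ) (p : (k[X])[X]) : (k[X])[X] :=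
  ∑ i ∈ Finset.range (p.natDegree + 1), C ((p.coeff i).reflect N) * X ^ i

@[simp] theorem coeff_flip (N : ℕ) (p : (k[X])[X]) (i : ℕ) : (flip N p).coeff i = (p.coeff i).reflect N := by
  rw [flip, finsetSum_coeff]
  simp only [coeff_C_mul_X_pow]
  rw [Finset.sum_ite_eq]
  split_ifs with h
  · rfl
  · rw [Finset.mem_range, not_lt] at h
    rw [coeff_eq_zero_of_natDegree_lt (p := p) (by omega), reflect_zero]

theorem natDegree_flip (N : ℕ) (p : (k[X])[X]) : (flip N p).natDegree = p.natDegree := by
  refine le_antisymm (natDegree_sum_le_of_forall_le _ _ fun i hi => ?_) ?_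
  · rw [Finset.mem_range] at hi
    exact (natDegree_C_mul_X_pow_le _ _).trans (by omega)
  · rcases eq_or_ne p 0 with rfl | hp
    · simp
    · refine le_natDegree_of_ne_zero ?_
      rw [coeff_flip, Ne, reflect_eq_zero_iff]
      exact leadingCoeff_ne_zero.2 hp

theorem reflect_reflect (N : ℕ) (f : k[X]) : (f.reflect N).reflect N = f := by
  ext i
  rw [coeff_reflect, coeff_reflect, revAt_invol]

/-- The map `y ↦ 1/y`. -/
noncomputable def phiInv (φ : k[X] →+* K) : k[X] →+* K :=
  eval₂RingHom (φ.comp C) (Ring.inverse (φ X))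

theorem phiInv_X : phiInv φ X = Ring.inverse (φ X) := by simp [phiInv]

theorem phiInv_C (c : k) : phiInv φ (C c) = φ (C c) := by simp [phiInv]

theorem Setup.inv_mul (S : Setup G φ x) : Ring.inverse (φ X) * φ X = 1 :=
  Ring.inverse_mul_cancel _ (S.unit X X_ne_zero)

theorem Setup.phiInv_reflect (S : Setup G φ x) {f : k[X]} {N : ℕ} (hf : f.natDegree ≤ N) :
    phiInv φ (f.reflect N) = Ring.inverse (φ X) ^ N * φ f := by
  letI : Invertible (φ X) := ⟨Ring.inverse (φ X), S.inv_mul, by rw [mul_comm]; exact S.inv_mul⟩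
  have h := eval₂_reflect_mul_pow (φ.comp C) (φ X) N f hf
  have hid : f.eval₂ (φ.comp C) (φ X) = φ f := by rw [← hom_eval₂, eval₂_C_X]
  rw [hid] at h
  rw [← h, mul_comm, mul_assoc, ← mul_pow, mul_comm (φ X), S.inv_mul, one_pow, mul_one]
  rfl

theorem Setup.phiInv_eq (S : Setup G φ x) (f : k[X]) :
    phiInv φ f = Ring.inverse (φ X) ^ f.natDegree * φ (f.reflect f.natDegree) := by
  conv_lhs => rw [← reflect_reflect f.natDegree f]
  exact S.phiInv_reflect (natDegree_reflect_le.trans (by simp))

theorem Setup.eval_flip (S : Setup G φ x) {p : (k[X])[X]} {N : ℕ} (hp : ∀ i, (p.coeff i).natDegree ≤ N) :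
    (flip N p).eval₂ (phiInv φ) x = Ring.inverse (φ X) ^ N * p.eval₂ φ x := by
  conv_rhs => rw [eval₂_eq_sum_range, Finset.mul_sum]
  rw [flip, eval₂_finsetSum]
  refine Finset.sum_congr rfl fun i _ => ?_
  rw [eval₂_mul, eval₂_C, eval₂_X_pow, S.phiInv_reflect (hp i), mul_assoc]

theorem exists_degree_bound (p : (k[X])[X]) : ∃ N, ∀ i, (p.coeff i).natDegree ≤ N := by
  refine ⟨(Finset.range (p.natDegree + 1)).sup fun i => (p.coeff i).natDegree, fun i => ?_⟩
  by_cases hi : i ≤ p.natDegree
  · exact Finset.le_sup (f := fun i => (p.coeff i).natDegree) (Finset.mem_range.2 (by omega))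
  · simp [coeff_eq_zero_of_natDegree_lt (not_le.1 hi)]

/-- The chart at infinity. -/
theorem Setup.inf [IsAlgClosed k] (S : Setup G φ x) {d : ℕ} (hd : ∀ i, (G.coeff i).natDegree ≤ d)
    (htop : (G.coeff 0).natDegree = d) (h0 : G.coeff 0 ≠ 0) : Setup (flip d G) (phiInv φ) x := by
  refine ⟨fun r hr => ?_, by rw [natDegree_flip]; exact S.pos, fun s hs => ?_, ?_, fun p hp hp0 => ?_, fun z => ?_⟩
  · rw [C_dvd_iff_dvd_coeff] at hr
    simp only [coeff_flip] at hr
    by_contra hu
    rcases eq_or_ne r 0 with rfl | hr0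
    · exact leadingCoeff_ne_zero.2 S.ne_zero (reflect_eq_zero_iff.1 (zero_dvd_iff.1 (hr G.natDegree)))
    obtain ⟨b, hb⟩ := IsAlgClosed.exists_root r (fun h => hu (isUnit_iff_degree_eq_zero.2 h))
    by_cases hb0 : b = 0
    · subst hb0
      have h := eval_dvd (x := (0 : k)) (hr 0)
      rw [show r.eval 0 = 0 from hb, zero_dvd_iff, ← coeff_zero_eq_eval_zero, coeff_reflect,
        revAt_le (Nat.zero_le _), Nat.sub_zero, ← htop] at h
      exact leadingCoeff_ne_zero.2 h0 h
    · have hdvd : C (X - C b⁻¹) ∣ G := by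
        rw [C_dvd_iff_dvd_coeff]
        intro i
        rw [dvd_iff_isRoot]
        have h := eval_dvd (x := b) (hr i)
        rw [show r.eval b = 0 from hb, zero_dvd_iff] at h
        letI : Invertible b⁻¹ := invertibleOfNonzero (inv_ne_zero hb0)
        have := eval₂_reflect_mul_pow (RingHom.id k) b⁻¹ d (G.coeff i) (hd i)
        rw [invOf_eq_inv, inv_inv] at this
        show eval b⁻¹ (G.coeff i) = 0
        rw [eval] at h ⊢
        rw [← this, h, zero_mul]
      exact not_isUnit_X_sub_C b⁻¹ (S.prim _ hdvd)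
  · rw [S.phiInv_eq]
    exact ((IsUnit.of_mul_eq_one _ S.inv_mul).pow _).mul (S.unit _ (by rwa [Ne, reflect_eq_zero_iff]))
  · rw [S.eval_flip hd, S.root, mul_zero]
  · rw [natDegree_flip] at hp
    obtain ⟨N, hN⟩ := exists_degree_bound p
    have h : (flip N p).eval₂ φ x = 0 := by
      have hp' : p.eval₂ (phiInv φ) x = Ring.inverse (φ X) ^ N * (flip N p).eval₂ φ x := by
        rw [← S.eval_flip (fun i => by
          rw [coeff_flip]; exact natDegree_reflect_le.trans (max_le le_rfl (hN i)))]
        congr 1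
        ext1 i
        simp only [coeff_flip, reflect_reflect]
      rw [hp0] at hp'
      exact ((IsUnit.of_mul_eq_one _ S.inv_mul).pow N).mul_right_eq_zero.1 hp'.symm
    have := S.indep _ (by rwa [natDegree_flip]) h
    ext1 i
    have := congrArg (fun q : (k[X])[X] => q.coeff i) this
    simpa using this
  · obtain ⟨s, hs, p, hp⟩ := S.span z
    obtain ⟨N, hN⟩ := exists_degree_bound p
    refine ⟨s.reflect (N + s.natDegree), by rwa [Ne, reflect_eq_zero_iff], flip (N + s.natDegree) p, ?_⟩
    rw [S.phiInv_reflect (by omega), S.eval_flip (fun i => (hN i).trans (Nat.le_add_right _ _)), ← hp, mul_assoc]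

/-- The degrees of the basis bundle. -/
noncomputable def deg (G : (k[X])[X]) (d r r' i : ℕ) : ℕ :=
  if i = 0 then 0 else d - (eps G r i + if i = 1 then r' else 0)

theorem thetaPoly_flip (d : ℕ) {i : ℕ} (hi : i ≠ 0) :
    thetaPoly (flip d G) i = flip d (thetaPoly G i) := by
  ext1 l
  rw [coeff_flip, thetaPoly, if_neg hi, thetaPoly, if_neg hi, finsetSum_coeff, finsetSum_coeff]
  simp only [natDegree_flip, coeff_flip, coeff_C_mul_X_pow]
  induction Finset.range i using Finset.cons_induction with
  | empty => simp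
  | cons a s ha ih =>
    rw [Finset.sum_cons, Finset.sum_cons, reflect_add, ← ih]
    congr 1
    split_ifs <;> simp

theorem Setup.thetaPoly_rev_eval (S : Setup G φ x) {xi : K} (hxi : x * xi = 1) (h0 : G.coeff 0 ≠ 0)
    {j : ℕ} (hj : j < G.natDegree) (hj0 : j ≠ 0) :
    (thetaPoly G.reverse j).eval₂ φ xi =
      -((thetaPoly G (G.natDegree - j)).eval₂ φ x + φ (G.coeff j)) := by
  have h := congrArg (fun p : (k[X])[X] => p.eval₂ φ x)
    (thetaPoly_tail (G := G) (j := G.natDegree - j) (by omega) (by omega))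
  simp only [eval₂_add, eval₂_mul, eval₂_X_pow, eval₂_finsetSum, eval₂_C, S.root,
    show G.natDegree - (G.natDegree - j) = j by omega, Finset.sum_range_succ] at h
  have hrev : (thetaPoly G.reverse j).eval₂ φ xi = ∑ l ∈ Finset.range j, φ (G.coeff l) * xi ^ (j - l) := by
    rw [thetaPoly, if_neg hj0, eval₂_finsetSum, natDegree_reverse h0]
    refine Finset.sum_congr rfl fun l hl => ?_
    rw [Finset.mem_range] at hl
    rw [eval₂_mul, eval₂_C, eval₂_X_pow, coeff_reverse, revAt_le (by omega),
      show G.natDegree - (G.natDegree - l) = l by omega]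
  rw [hrev, eq_neg_iff_add_eq_zero]
  have hsum : ∑ l ∈ Finset.range j, φ (G.coeff l) * xi ^ (j - l) =
      xi ^ j * ∑ l ∈ Finset.range j, φ (G.coeff l) * x ^ l := by
    rw [Finset.mul_sum]
    refine Finset.sum_congr rfl fun l hl => ?_
    rw [Finset.mem_range] at hl
    calc φ (G.coeff l) * xi ^ (j - l) = φ (G.coeff l) * xi ^ (j - l) * (x * xi) ^ l := by
          rw [hxi, one_pow, mul_one]
      _ = φ (G.coeff l) * (xi ^ (j - l) * xi ^ l) * x ^ l := by ring
      _ = _ := by rw [← pow_add, show j - l + l = j by omega]; ring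
  have hone : xi ^ j * x ^ j = 1 := by rw [← mul_pow, mul_comm, hxi, one_pow]
  rw [hsum]
  calc _ = xi ^ j * (x ^ j * (thetaPoly G (G.natDegree - j)).eval₂ φ x +
        (∑ l ∈ Finset.range j, φ (G.coeff l) * x ^ l + φ (G.coeff j) * x ^ j)) := by
        linear_combination (-((thetaPoly G (G.natDegree - j)).eval₂ φ x + φ (G.coeff j))) * hone
    _ = 0 := by rw [h, mul_zero]

/-- The pieces of the construction. -/
structure Chart (G : (k[X])[X]) (d r r' : ℕ) : Prop where
  two : 2 ≤ G.natDegree
  coeff0 : G.coeff 0 ≠ 0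
  bound : ∀ i, (G.coeff i).natDegree ≤ d
  top : (G.coeff 0).natDegree = d
  rle : r + r' + 2 ≤ d
  smooth : SmoothOff G
  smoothRev : SmoothOff G.reverse
  smoothInf : SmoothOff (flip d G)
  smoothInfRev : SmoothOff (flip d G).reverse
  br : Branches G r
  brInf : Branches (flip d G).reverse r'
  div1Inf : X ^ r' ∣ (flip d G).reverse.coeff 1

variable {d r r' : ℕ}

variable [IsAlgClosed k]

theorem Setup.int_fin (S : Setup G φ x) (H : Chart G d r r') {z : K} (hz : φ.IsIntegralElem z) :
    ∃ c : ℕ → k[X], z = ∑ i ∈ Finset.range G.natDegree, φ (c i) * wel G φ x r i :=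
  S.integral_mem H.coeff0 H.smooth H.smoothRev H.br hz

theorem Chart.inf_coeff0 (H : Chart G d r r') : (flip d G).coeff 0 ≠ 0 := by
  rw [coeff_flip, Ne, reflect_eq_zero_iff]; exact H.coeff0

theorem Chart.inf_rev_natDegree (H : Chart G d r r') : (flip d G).reverse.natDegree = G.natDegree := by
  rw [natDegree_reverse H.inf_coeff0, natDegree_flip]

/-- The basis at infinity in terms of the basis at zero. -/
theorem Setup.wel_inf (S : Setup G φ x) (H : Chart G d r r') {xi : K} (hxi : x * xi = 1) {i : ℕ}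
    (hi : i < G.natDegree) (hi0 : i ≠ 0) :
    ∃ h : k[X], Ring.inverse (φ X) ^ deg G d r r' i * wel G φ x r i =
      -(wel (flip d G).reverse (phiInv φ) xi r' (G.natDegree - i) + phiInv φ h) := by
  have S' := S.inf H.bound H.top H.coeff0
  obtain ⟨h, hh⟩ : X ^ (if i = 1 then r' else 0) ∣ (flip d G).coeff (G.natDegree - i) := by
    split_ifs with h1
    · subst h1
      have := H.div1Inf
      rwa [coeff_reverse, natDegree_flip, revAt_le (by omega)] at this
    · exact one_dvd _
  refine ⟨h, ?_⟩
  have hε : eps (flip d G).reverse r' (G.natDegree - i) = if i = 1 then r' else 0 := by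
    rw [eps, H.inf_rev_natDegree]
    split_ifs <;> omega
  have hle : eps G r i + (if i = 1 then r' else 0) ≤ d := by
    have := H.rle
    unfold eps; split_ifs <;> omega
  refine ((S'.unit X X_ne_zero).pow (if i = 1 then r' else 0)).mul_left_cancel ?_
  rw [mul_neg, mul_add, ← hε, (S'.rev hxi H.inf_coeff0).wel_spec, hε,
    S'.thetaPoly_rev_eval hxi H.inf_coeff0 (by rw [natDegree_flip]; omega) (by omega), natDegree_flip,
    show G.natDegree - (G.natDegree - i) = i by omega, hh, map_mul, map_pow, thetaPoly_flip d hi0,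
    S.eval_flip (fun l => ?_), ← S.wel_spec r i, phiInv_X]
  · have hd : d = deg G d r r' i + (if i = 1 then r' else 0) + eps G r i := by
      rw [deg, if_neg hi0]; omega
    have h1 : Ring.inverse (φ X) ^ d * φ X ^ eps G r i =
        Ring.inverse (φ X) ^ (deg G d r r' i + if i = 1 then r' else 0) := by
      conv_lhs => rw [hd, pow_add, mul_assoc, ← mul_pow, S.inv_mul, one_pow, mul_one]
    rw [pow_add] at h1
    linear_combination (-wel G φ x r i) * h1
  · rw [thetaPoly, if_neg hi0, finsetSum_coeff]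
    refine natDegree_sum_le_of_forall_le _ _ fun a _ => ?_
    rw [coeff_C_mul_X_pow]
    split_ifs
    · exact H.bound _
    · simp

theorem Setup.int_inf (S : Setup G φ x) (H : Chart G d r r') {z : K} (hz : (phiInv φ).IsIntegralElem z) :
    ∃ c : ℕ → k[X], z = ∑ i ∈ Finset.range G.natDegree,
      phiInv φ (c i) * (Ring.inverse (φ X) ^ deg G d r r' i * wel G φ x r i) := by
  obtain ⟨xi, hxi⟩ := S.exists_inv H.coeff0
  have S' := (S.inf H.bound H.top H.coeff0).rev hxi H.inf_coeff0
  have hrc : (flip d G).reverse.coeff 0 ≠ 0 := by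
    rw [coeff_zero_reverse, Ne, leadingCoeff_eq_zero]
    exact (S.inf H.bound H.top H.coeff0).ne_zero
  have hsm : SmoothOff (flip d G).reverse.reverse := by
    rw [reverse, natDegree_reverse H.inf_coeff0, reverse]
    rw [show ((flip d G).reflect (flip d G).natDegree).reflect (flip d G).natDegree = flip d G by
      ext1 i; rw [coeff_reflect, coeff_reflect, revAt_invol]]
    exact H.smoothInf
  obtain ⟨c, hc⟩ := S'.integral_mem hrc H.smoothInfRev hsm H.brInf hz
  rw [H.inf_rev_natDegree] at hc
  -- the two bases span the same module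
  suffices hs : ∀ j < G.natDegree, ∃ e : ℕ → k[X], wel (flip d G).reverse (phiInv φ) xi r' j =
      ∑ i ∈ Finset.range G.natDegree, phiInv φ (e i) * (Ring.inverse (φ X) ^ deg G d r r' i * wel G φ x r i) by
    choose! e he using hs
    refine ⟨fun i => ∑ j ∈ Finset.range G.natDegree, c j * e j i, ?_⟩
    simp only [map_sum, Finset.sum_mul, map_mul]
    rw [Finset.sum_comm, hc]
    refine Finset.sum_congr rfl fun j hj => ?_
    rw [he j (Finset.mem_range.1 hj), Finset.mul_sum]
    exact Finset.sum_congr rfl fun i _ => (mul_assoc _ _ _).symm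
  intro j hj
  have hzero : Ring.inverse (φ X) ^ deg G d r r' 0 * wel G φ x r 0 = 1 := by
    rw [deg, if_pos rfl, pow_zero, one_mul, wel_zero _ H.two]
  rcases eq_or_ne j 0 with rfl | hj0
  · refine ⟨fun i => if i = 0 then 1 else 0, ?_⟩
    rw [wel_zero _ (by rw [H.inf_rev_natDegree]; exact H.two),
      Finset.sum_eq_single_of_mem 0 (Finset.mem_range.2 S.pos) fun i _ hi => by simp [hi]]
    simp [hzero]
  · obtain ⟨h, hh⟩ := S.wel_inf H hxi (i := G.natDegree - j) (by omega) (by omega)
    rw [show G.natDegree - (G.natDegree - j) = j by omega] at hh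
    refine ⟨fun i => if i = 0 then -h else if i = G.natDegree - j then -1 else 0, ?_⟩
    rw [Finset.sum_eq_add_of_mem 0 (G.natDegree - j) (Finset.mem_range.2 S.pos) (Finset.mem_range.2 (by omega))
      (by omega) fun i _ hi => by simp [hi.1, hi.2]]
    simp only [if_pos, if_neg (show G.natDegree - j ≠ 0 by omega), hzero, hh, map_neg, map_one]
    ring

/-- Elements with bounded pole at infinity have bounded coefficients. -/
theorem Setup.coeff_bound (S : Setup G φ x) (H : Chart G d r r') {c : ℕ → k[X]} {N : ℕ} {z : K}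
    (hc : z = ∑ i ∈ Finset.range G.natDegree, φ (c i) * wel G φ x r i)
    (hz : (phiInv φ).IsIntegralElem (Ring.inverse (φ X) ^ N * z)) :
    ∀ i < G.natDegree, c i = 0 ∨ (c i).natDegree + deg G d r r' i ≤ N := by
  intro i hi
  obtain ⟨c', hc'⟩ := S.int_inf H hz
  let M := (Finset.range G.natDegree).sup fun i => (c' i).natDegree + deg G d r r' i
  have hM : ∀ j ∈ Finset.range G.natDegree, (c' j).natDegree + deg G d r r' j ≤ M := fun j hj =>
    Finset.le_sup (f := fun i => (c' i).natDegree + deg G d r r' i) hj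
  have hpow : ∀ a, φ X ^ a * Ring.inverse (φ X) ^ a = 1 := fun a => by
    rw [← mul_pow, mul_comm, S.inv_mul, one_pow]
  have key := S.wel_indep r
    (c := fun j => c j * X ^ M -
      (c' j).reflect (c' j).natDegree * X ^ (M + N - ((c' j).natDegree + deg G d r r' j))) ?_ i hi
  · rcases eq_or_ne (c i) 0 with h0 | h0
    · exact Or.inl h0
    refine Or.inr ?_
    have hMi := hM i (Finset.mem_range.2 hi)
    have heq := congrArg natDegree (sub_eq_zero.1 key)
    rw [natDegree_mul h0 (pow_ne_zero _ X_ne_zero), natDegree_X_pow] at heq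
    have hle : ((c' i).reflect (c' i).natDegree * X ^ (M + N - ((c' i).natDegree + deg G d r r' i))).natDegree ≤
        (c' i).natDegree + (M + N - ((c' i).natDegree + deg G d r r' i)) :=
      natDegree_mul_le.trans (add_le_add (natDegree_reflect_le.trans (by simp)) (by simp))
    omega
  · simp only [map_sub, sub_mul, Finset.sum_sub_distrib, map_mul, map_pow]
    rw [sub_eq_zero]
    trans φ X ^ M * z
    · rw [hc, Finset.mul_sum]
      exact Finset.sum_congr rfl fun j _ => by ring
    · trans φ X ^ (M + N) * (Ring.inverse (φ X) ^ N * z)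
      · rw [pow_add, mul_assoc, ← mul_assoc (φ X ^ N), hpow, one_mul]
      rw [hc', Finset.mul_sum]
      refine Finset.sum_congr rfl fun j hj => ?_
      rw [S.phiInv_eq]
      have := hM j hj
      conv_lhs => rw [show M + N = (M + N - ((c' j).natDegree + deg G d r r' j)) +
        ((c' j).natDegree + deg G d r r' j) by omega, pow_add, pow_add]
      calc _ = φ ((c' j).reflect (c' j).natDegree) * φ X ^ (M + N - ((c' j).natDegree + deg G d r r' j)) *
            wel G φ x r j * (φ X ^ (c' j).natDegree * Ring.inverse (φ X) ^ (c' j).natDegree) *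
            (φ X ^ deg G d r r' j * Ring.inverse (φ X) ^ deg G d r r' j) := by ring
        _ = _ := by rw [hpow, hpow, mul_one, mul_one]

theorem Setup.deg_pos (H : Chart G d r r') {i : ℕ} (hi : i ≠ 0) : 2 ≤ deg G d r r' i := by
  have := H.rle
  rw [deg, if_neg hi]
  unfold eps
  split_ifs <;> omega

/-- Global integral elements are constants. -/
theorem Setup.global_const (S : Setup G φ x) (H : Chart G d r r') {z : K} (h1 : φ.IsIntegralElem z)
    (h2 : (phiInv φ).IsIntegralElem z) : ∃ a : k, z = φ (C a) := by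
  obtain ⟨c, hc⟩ := S.int_fin H h1
  have hb := S.coeff_bound H (N := 0) hc (by simpa using h2)
  refine ⟨(c 0).coeff 0, ?_⟩
  rw [hc, Finset.sum_eq_single_of_mem 0 (Finset.mem_range.2 S.pos) fun i hi hi0 => ?_]
  · rw [wel_zero _ H.two, mul_one]
    rcases hb 0 S.pos with h | h
    · rw [h]; simp
    · rw [eq_C_of_natDegree_le_zero (p := c 0) (by omega)]; simp
  · rcases hb i (Finset.mem_range.1 hi) with h | h
    · rw [h, map_zero, zero_mul]
    · have := Setup.deg_pos H hi0
      omega

theorem Setup.nontrivial (S : Setup G φ x) : Nontrivial K := by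
  refine ⟨⟨1, 0, fun h => ?_⟩⟩
  exact one_ne_zero (S.indep 1 (by simpa using S.pos) (by simpa using h))

theorem Setup.isReduced (S : Setup G φ x) (H : Chart G d r r') : IsReduced K := by
  refine ⟨fun z hz => ?_⟩
  have hint : ∀ w : K, IsNilpotent w → φ.IsIntegralElem w := fun w ⟨n, hn⟩ =>
    ⟨X ^ (n + 1), monic_X_pow _, by rw [eval₂_X_pow, pow_succ, hn, zero_mul]⟩
  obtain ⟨c, hc⟩ := S.int_fin H (hint z hz)
  rw [hc]
  refine Finset.sum_eq_zero fun i hi => ?_
  rw [Finset.mem_range] at hi
  suffices hall : ∀ n : ℕ, X ^ n ∣ c i by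
    have h0 : c i = 0 := eq_zero_of_dvd_of_natDegree_lt (hall ((c i).natDegree + 1)) (by simp)
    rw [h0, map_zero, zero_mul]
  intro n
  obtain ⟨c', hc'⟩ := S.int_fin H
    (hint (Ring.inverse (φ X) ^ n * z) ((Commute.all _ _).isNilpotent_mul_left hz))
  refine ⟨c' i, sub_eq_zero.1 (S.wel_indep r (c := fun j => c j - X ^ n * c' j) ?_ i hi)⟩
  simp only [map_sub, sub_mul, Finset.sum_sub_distrib, map_mul, mul_assoc, ← Finset.mul_sum]
  rw [← hc, ← hc', map_pow, ← mul_assoc, ← mul_pow, mul_comm (φ X), S.inv_mul, one_pow, one_mul, sub_self]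

theorem Setup.isField [IsArtinianRing K] (S : Setup G φ x) (H : Chart G d r r') : IsField K := by
  haveI := S.nontrivial
  haveI := S.isReduced H
  refine ⟨exists_pair_ne K, mul_comm, fun {z} hz => ?_⟩
  obtain ⟨n, y, hy⟩ := IsArtinian.exists_pow_succ_smul_dvd z (1 : K)
  have hstep : ∀ l, z ^ n = z ^ (n + l) * y ^ l := by
    intro l
    induction l with
    | zero => simp
    | succ l ih =>
      rw [smul_eq_mul, smul_eq_mul, mul_one] at hy
      calc z ^ n = z ^ (n + l) * y ^ l := ih
        _ = z ^ l * (z ^ n) * y ^ l := by rw [pow_add]; ring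
        _ = z ^ l * (z ^ n.succ * y) * y ^ l := by rw [hy]
        _ = _ := by rw [Nat.succ_eq_add_one]; ring
  have he2 : (z ^ n * y ^ n) ^ 2 = z ^ n * y ^ n := by
    calc (z ^ n * y ^ n) ^ 2 = z ^ (n + n) * y ^ n * y ^ n := by ring
      _ = _ := by rw [← hstep n]
  have hint : ∀ ψ : k[X] →+* K, ψ.IsIntegralElem (z ^ n * y ^ n) := fun ψ =>
    ⟨X ^ 2 - X, monic_X_pow_sub (by simp [degree_X]), by simp [he2]⟩
  obtain ⟨a, ha⟩ := S.global_const H (hint φ) (hint _)
  rcases eq_or_ne a 0 with rfl | ha0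
  · refine absurd (IsReduced.eq_zero z ⟨n, ?_⟩) hz
    rw [map_zero, map_zero] at ha
    calc z ^ n = z ^ (n + n) * y ^ n := hstep n
      _ = z ^ n * (z ^ n * y ^ n) := by ring
      _ = 0 := by rw [ha, mul_zero]
  · have hu : IsUnit (z ^ n * y ^ n) := ha ▸ S.unit _ (by simpa using ha0)
    rcases Nat.eq_zero_or_pos n with rfl | hn
    · exact ⟨y, by simpa [smul_eq_mul] using hy⟩
    · obtain ⟨w, hw⟩ := hu.exists_right_inv
      refine ⟨z ^ (n - 1) * y ^ n * w, ?_⟩
      rw [← hw, show n = n - 1 + 1 by omega, pow_succ]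
      simp only [Nat.add_sub_cancel]
      ring

end Groth.Agent.CurvFam16.Gonal
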