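import Groth.Agent.CurvFam16.Gonal.Normal
import Mathlib.RingTheory.PowerSeries.Inverse
import Mathlib.Algebra.Polynomial.Inductions

/-! The lattice of integral elements of the algebra of a binary form. -/

set_option linter.style.haveILetI false
set_option backward.isDefEq.respectTransparency false

namespace Groth.Agent.CurvFam16.Gonal

open Polynomial

variable {k K : Type*} [Field k] [CommRing K] {G : (k[X])[X]} {φ : k[X] →+* K} {x : K}

theorem natDegree_reverse (h0 : G.coeff 0 ≠ 0) : G.reverse.natDegree = G.natDegree := by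
  rw [Polynomial.reverse_natDegree, natTrailingDegree_eq_zero.2 (Or.inr h0), Nat.sub_zero]

theorem Setup.exists_inv (S : Setup G φ x) (h0 : G.coeff 0 ≠ 0) : ∃ xi : K, x * xi = 1 := by
  have h : x * G.divX.eval₂ φ x + φ (G.coeff 0) = 0 := by
    have := congrArg (fun p : (k[X])[X] => p.eval₂ φ x) (X_mul_divX_add G)
    simp only [eval₂_add, eval₂_mul, eval₂_X, eval₂_C, S.root] at this
    exact this
  obtain ⟨u, hu⟩ := S.unit _ h0
  refine ⟨-(G.divX.eval₂ φ x * ↑u⁻¹), ?_⟩
  rw [mul_neg, ← mul_assoc, eq_neg_of_add_eq_zero_left h, neg_mul, neg_neg, ← hu, Units.mul_inv]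

theorem eval₂_reflect_inv {xi : K} (hxi : x * xi = 1) {p : (k[X])[X]} {N : ℕ} (hp : p.natDegree ≤ N) :
    (p.reflect N).eval₂ φ xi * x ^ N = p.eval₂ φ x := by
  letI : Invertible x := ⟨xi, by rw [mul_comm]; exact hxi, hxi⟩
  exact eval₂_reflect_mul_pow φ x N p hp

/-- The reversed form. -/
theorem Setup.rev (S : Setup G φ x) {xi : K} (hxi : x * xi = 1) (h0 : G.coeff 0 ≠ 0) :
    Setup G.reverse φ xi := by
  have hdeg := natDegree_reverse h0
  have hx : IsUnit x := IsUnit.of_mul_eq_one xi hxi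
  refine ⟨fun r hr => S.prim r ?_, hdeg ▸ S.pos, S.unit, ?_, fun p hp hp0 => ?_, fun z => ?_⟩
  · rw [C_dvd_iff_dvd_coeff] at hr ⊢
    intro i
    have := hr (revAt G.natDegree i)
    rwa [reverse, coeff_reflect, revAt_invol] at this
  · refine (hx.pow G.natDegree).mul_left_eq_zero.1 ?_
    rw [reverse, eval₂_reflect_inv hxi le_rfl, S.root]
  · rw [hdeg] at hp
    have hp' : p.natDegree ≤ G.natDegree - 1 := by omega
    have h1 : (p.reflect (G.natDegree - 1)).eval₂ φ x = 0 := by
      have h := eval₂_reflect_inv (φ := φ) (x := xi) (xi := x) (by rw [mul_comm]; exact hxi) hp'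
      rw [hp0, (IsUnit.of_mul_eq_one x (by rw [mul_comm]; exact hxi) |>.pow _).mul_left_eq_zero] at h
      exact h
    have h2 := S.indep _ (lt_of_le_of_lt natDegree_reflect_le (by
      rw [max_eq_left hp']; have := S.pos; omega)) h1
    ext1 i
    have := congrArg (fun q : (k[X])[X] => q.coeff (revAt (G.natDegree - 1) i)) h2
    simpa [coeff_reflect, revAt_invol] using this
  · obtain ⟨s, hs, p, hp⟩ := S.span z
    have key : ∀ D : ℕ, ∃ q : (k[X])[X], φ G.leadingCoeff ^ D * x ^ D = q.eval₂ φ xi := by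
      have h1 : ∃ q : (k[X])[X], φ G.leadingCoeff * x = q.eval₂ φ xi := by
        have hr : G.reverse.eval₂ φ xi = 0 := (hx.pow G.natDegree).mul_left_eq_zero.1 (by
          rw [reverse, eval₂_reflect_inv hxi le_rfl, S.root])
        refine ⟨-G.reverse.divX, ?_⟩
        have := congrArg (fun p : (k[X])[X] => p.eval₂ φ xi) (X_mul_divX_add G.reverse)
        simp only [eval₂_add, eval₂_mul, eval₂_X, eval₂_C, hr, coeff_zero_reverse] at this
        rw [eval₂_neg]
        linear_combination x * this - G.reverse.divX.eval₂ φ xi * hxi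
      intro D
      obtain ⟨q, hq⟩ := h1
      exact ⟨q ^ D, by rw [← mul_pow, hq, eval₂_pow]⟩
    obtain ⟨q, hq⟩ := key p.natDegree
    refine ⟨G.leadingCoeff ^ p.natDegree * s, mul_ne_zero (pow_ne_zero _ (leadingCoeff_ne_zero.2 S.ne_zero)) hs,
      p.reflect p.natDegree * q, ?_⟩
    rw [map_mul, map_pow, mul_assoc, hp, ← eval₂_reflect_inv hxi le_rfl, eval₂_mul, ← hq]
    ring

/-- The twist at the last basis element. -/
noncomputable def eps (G : (k[X])[X]) (r i : ℕ) : ℕ := if i + 1 = G.natDegree then r else 0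

/-- Branches at `y = 0` along which the twisted basis has independent values. -/
def Branches (G : (k[X])[X]) (r : ℕ) : Prop :=
  ∃ (ρ : ℕ → PowerSeries k) (W : ℕ → ℕ → PowerSeries k),
    (∀ j < G.natDegree, G.eval₂ Polynomial.coeToPowerSeries.ringHom (ρ j) = 0) ∧
    (∀ i < G.natDegree, ∀ j < G.natDegree,
      (thetaPoly G i).eval₂ Polynomial.coeToPowerSeries.ringHom (ρ j) = PowerSeries.X ^ eps G r i * W i j) ∧
    ∀ v : ℕ → k, (∀ j < G.natDegree, ∑ i ∈ Finset.range G.natDegree,
      v i * PowerSeries.constantCoeff (W i j) = 0) → ∀ i < G.natDegree, v i = 0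

/-- `θ_i / y^{ε_i}`. -/
noncomputable def wel (G : (k[X])[X]) (φ : k[X] →+* K) (x : K) (r i : ℕ) : K :=
  (thetaPoly G i).eval₂ φ x * Ring.inverse (φ X) ^ eps G r i

theorem Setup.wel_spec (S : Setup G φ x) (r i : ℕ) :
    φ X ^ eps G r i * wel G φ x r i = (thetaPoly G i).eval₂ φ x := by
  rw [wel, mul_left_comm, ← mul_pow, Ring.mul_inverse_cancel _ (S.unit X X_ne_zero), one_pow, mul_one]

theorem wel_zero (r : ℕ) (h2 : 2 ≤ G.natDegree) : wel G φ x r 0 = 1 := by
  simp [wel, thetaPoly, eps, show ¬ 1 = G.natDegree by omega]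

theorem Setup.theta_indep (S : Setup G φ x) {c : ℕ → k[X]}
    (h : ∑ i ∈ Finset.range G.natDegree, φ (c i) * (thetaPoly G i).eval₂ φ x = 0) :
    ∀ i < G.natDegree, c i = 0 := by
  have hp0 : ∑ i ∈ Finset.range G.natDegree, C (c i) * thetaPoly G i = 0 := by
    refine S.indep _ ?_ ?_
    · refine lt_of_le_of_lt (natDegree_sum_le_of_forall_le (n := G.natDegree - 1) _ _ fun i hi => ?_)
        (by have := S.pos; omega)
      rw [Finset.mem_range] at hi
      exact (natDegree_C_mul_le _ _).trans ((thetaPoly_natDegree_le G i).trans (by omega))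
    · rw [eval₂_finsetSum, ← h]
      exact Finset.sum_congr rfl fun i _ => by rw [eval₂_mul, eval₂_C]
  by_contra! hne
  obtain ⟨i₁, hi₁, hne₁⟩ := hne
  classical
  let s := (Finset.range G.natDegree).filter fun i => c i ≠ 0
  have hs : s.Nonempty := ⟨i₁, Finset.mem_filter.2 ⟨Finset.mem_range.2 hi₁, hne₁⟩⟩
  obtain ⟨hi, hci⟩ := Finset.mem_filter.1 (s.max'_mem hs)
  have hcoeff := congrArg (fun p : (k[X])[X] => p.coeff (s.max' hs)) hp0
  simp only [finsetSum_coeff, coeff_zero, coeff_C_mul] at hcoeff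
  rw [Finset.sum_eq_single_of_mem _ hi fun j hj hjne => ?_] at hcoeff
  · by_cases h0 : s.max' hs = 0
    · rw [h0] at hcoeff hci
      simp [thetaPoly] at hcoeff
      exact hci hcoeff
    · rw [thetaPoly_coeff_top G h0, mul_eq_zero] at hcoeff
      exact hci (hcoeff.resolve_right (leadingCoeff_ne_zero.2 S.ne_zero))
  · by_cases hcj : c j = 0
    · rw [hcj, zero_mul]
    · rw [coeff_eq_zero_of_natDegree_lt (lt_of_le_of_lt (thetaPoly_natDegree_le G j)
        (lt_of_le_of_ne (s.le_max' j (Finset.mem_filter.2 ⟨hj, hcj⟩)) hjne)), mul_zero]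

theorem Setup.wel_indep (S : Setup G φ x) (r : ℕ) {c : ℕ → k[X]}
    (h : ∑ i ∈ Finset.range G.natDegree, φ (c i) * wel G φ x r i = 0) :
    ∀ i < G.natDegree, c i = 0 := by
  intro i hi
  have h' := S.theta_indep (c := fun i => c i * X ^ (r - eps G r i)) ?_ i hi
  · exact (mul_eq_zero.1 h').resolve_right (pow_ne_zero _ X_ne_zero)
  · rw [← mul_zero (φ X ^ r), ← h, Finset.mul_sum]
    refine Finset.sum_congr rfl fun j _ => ?_
    rw [← S.wel_spec r j, map_mul, map_pow]
    have : r - eps G r j + eps G r j = r := by unfold eps; split_ifs <;> omega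
    calc _ = φ X ^ (r - eps G r j + eps G r j) * (φ (c j) * wel G φ x r j) := by rw [pow_add]; ring
      _ = _ := by rw [this]

theorem series_dvd {P : Polynomial k[X]} (hPm : P.Monic) (s : k[X]) (hs : s ≠ 0) {u : PowerSeries k}
    (h : (P.scaleRoots s).eval₂ Polynomial.coeToPowerSeries.ringHom u = 0) :
    Polynomial.coeToPowerSeries.ringHom s ∣ u := by
  let F := FractionRing (PowerSeries k)
  let ι : k[X] →+* PowerSeries k := Polynomial.coeToPowerSeries.ringHom
  have hs' : algebraMap _ F (ι s) ≠ 0 :=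
    (map_ne_zero_iff _ (IsFractionRing.injective (PowerSeries k) F)).2 (by simpa [ι] using hs)
  have hint : IsIntegral (PowerSeries k) (algebraMap _ F u / algebraMap _ F (ι s)) := by
    refine ⟨P.map ι, hPm.map _, ?_⟩
    have h0 : (P.scaleRoots s).eval₂ ((algebraMap _ F).comp ι)
        (algebraMap _ F (ι s) * (algebraMap _ F u / algebraMap _ F (ι s))) = 0 := by
      rw [mul_div_cancel₀ _ hs', ← hom_eval₂, h, map_zero]
    rw [show algebraMap _ F (ι s) = ((algebraMap _ F).comp ι) s from rfl, scaleRoots_eval₂_mul] at h0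
    rw [eval₂_map]
    exact (mul_eq_zero.1 h0).resolve_left (pow_ne_zero _ hs')
  obtain ⟨c, hc⟩ := IsIntegrallyClosed.algebraMap_eq_of_integral hint
  rw [eq_div_iff hs', ← map_mul] at hc
  exact ⟨c, by rw [← IsFractionRing.injective _ F hc, mul_comm]⟩

/-- **The integral elements are spanned by the twisted basis.** -/
theorem Setup.integral_mem [IsAlgClosed k] (S : Setup G φ x) (h0 : G.coeff 0 ≠ 0) (hsm : SmoothOff G)
    (hsm' : SmoothOff G.reverse) {r : ℕ} (hbr : Branches G r) {z : K} (hz : φ.IsIntegralElem z) :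
    ∃ c : ℕ → k[X], z = ∑ i ∈ Finset.range G.natDegree, φ (c i) * wel G φ x r i := by
  obtain ⟨xi, hxi⟩ := S.exists_inv h0
  obtain ⟨N, p, hp⟩ := S.exists_pow_mul_eq hsm hz
  obtain ⟨M, q, hq⟩ := (S.rev hxi h0).exists_pow_mul_eq hsm' hz
  obtain ⟨c, hc⟩ := S.mem_thetaSpan hxi _ (C (X ^ M) * p) le_rfl ⟨C (X ^ N) * q, by
    rw [eval₂_mul, eval₂_mul, eval₂_C, eval₂_C, ← hp, ← hq, map_pow, map_pow]; ring⟩
  have hL : ∃ (L : ℕ) (c : ℕ → k[X]),
      φ X ^ L * z = ∑ i ∈ Finset.range G.natDegree, φ (c i) * wel G φ x r i := by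
    refine ⟨M + N, fun i => c i * X ^ eps G r i, ?_⟩
    rw [pow_add, mul_assoc, hp, ← map_pow, ← eval₂_C (f := φ) (a := X ^ M) (x := x), ← eval₂_mul, hc]
    refine Finset.sum_congr rfl fun i _ => ?_
    rw [← S.wel_spec r i, map_mul, map_pow]; ring
  obtain ⟨L, c, hc⟩ := hL
  obtain ⟨P, hPm, hP⟩ := hz
  obtain ⟨ρ, W, hρ, hW, hind⟩ := hbr
  clear! p q N M xi
  induction L generalizing c with
  | zero => exact ⟨c, by simpa using hc⟩
  | succ L ih =>
    have hdvd : ∀ i < G.natDegree, X ∣ c i := by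
      intro i hi
      rw [X_dvd_iff]
      refine hind (fun i => (c i).coeff 0) (fun j hj => ?_) i hi
      let ι : k[X] →+* PowerSeries k := Polynomial.coeToPowerSeries.ringHom
      let p : (k[X])[X] := ∑ i ∈ Finset.range G.natDegree, C (c i * X ^ (r - eps G r i)) * thetaPoly G i
      have hε : ∀ i, r - eps G r i + eps G r i = r := fun i => by unfold eps; split_ifs <;> omega
      have hpe : φ (X ^ (L + 1 + r)) * z = p.eval₂ φ x := by
        rw [map_pow, pow_add, mul_comm (φ X ^ (L + 1)), mul_assoc, hc, eval₂_finsetSum, Finset.mul_sum]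
        refine Finset.sum_congr rfl fun i _ => ?_
        rw [eval₂_mul, eval₂_C, ← S.wel_spec r i, map_mul, map_pow]
        calc _ = φ X ^ (r - eps G r i + eps G r i) * (φ (c i) * wel G φ x r i) := by rw [hε i]
          _ = _ := by rw [pow_add]; ring
      have hroot : ((P.scaleRoots (X ^ (L + 1 + r))).eval₂ C p).eval₂ φ x = 0 := by
        rw [← coe_eval₂RingHom φ x, hom_eval₂,
          show (eval₂RingHom φ x).comp C = φ from RingHom.ext fun a => eval₂_C _ _, coe_eval₂RingHom, ← hpe]
        exact scaleRoots_eval₂_eq_zero φ hP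
      have hser : (P.scaleRoots (X ^ (L + 1 + r))).eval₂ ι (p.eval₂ ι (ρ j)) = 0 := by
        obtain ⟨g, hg⟩ := S.dvd_of_eval hroot
        have := congrArg (eval₂RingHom ι (ρ j)) hg
        rw [map_mul, show eval₂RingHom ι (ρ j) G = 0 from hρ j hj, zero_mul, hom_eval₂,
          show (eval₂RingHom ι (ρ j)).comp C = ι from RingHom.ext fun a => eval₂_C _ _] at this
        exact this
      obtain ⟨u, hu⟩ := series_dvd hPm _ (pow_ne_zero _ X_ne_zero) hser
      have heq : PowerSeries.X ^ r * ∑ i ∈ Finset.range G.natDegree, ι (c i) * W i j =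
          PowerSeries.X ^ r * (PowerSeries.X ^ (L + 1) * u) := by
        rw [← mul_assoc, ← pow_add, add_comm r, show PowerSeries.X ^ (L + 1 + r) = ι (X ^ (L + 1 + r)) by simp [ι],
          ← hu, eval₂_finsetSum, Finset.mul_sum]
        refine Finset.sum_congr rfl fun i hi => ?_
        rw [eval₂_mul, eval₂_C, hW i (Finset.mem_range.1 hi) j hj, map_mul, map_pow,
          show ι X = PowerSeries.X from Polynomial.coe_X]
        calc _ = PowerSeries.X ^ (r - eps G r i + eps G r i) * (ι (c i) * W i j) := by rw [hε i]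
          _ = _ := by rw [pow_add]; ring
      have h := congrArg PowerSeries.constantCoeff (mul_left_cancel₀ (pow_ne_zero _ PowerSeries.X_ne_zero) heq)
      rw [map_sum, map_mul, map_pow, PowerSeries.constantCoeff_X, zero_pow (Nat.succ_ne_zero L), zero_mul] at h
      rw [← h]
      refine Finset.sum_congr rfl fun i _ => ?_
      rw [map_mul, show ι (c i) = ((c i : k[X]) : PowerSeries k) from rfl, Polynomial.constantCoeff_coe]
    choose! c' hc' using hdvd
    refine ih c' ((S.unit X X_ne_zero).mul_left_cancel ?_)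
    rw [← mul_assoc, ← pow_succ', hc, Finset.mul_sum]
    refine Finset.sum_congr rfl fun i hi => ?_
    rw [hc' i (Finset.mem_range.1 hi), map_mul, mul_assoc]

end Groth.Agent.CurvFam16.Gonal
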