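import Groth.Agent.CurvFam16.Gonal.Form

/-! The function field of a good form. -/

set_option linter.style.haveILetI false
set_option backward.isDefEq.respectTransparency false

universe u

namespace Groth.Agent.CurvFam16.Gonal

open Polynomial FunFld IntermediateField
open scoped IntermediateField
open Groth.Agent.FFLib

variable {k : Type u} [Field k]

theorem Setup.map {K K' : Type*} [CommRing K] [CommRing K'] {G : (k[X])[X]} {φ : k[X] →+* K} {x : K}
    (S : Setup G φ x) (e : K ≃+* K') : Setup G (e.toRingHom.comp φ) (e x) := by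
  have hev : ∀ p : (k[X])[X], p.eval₂ (e.toRingHom.comp φ) (e x) = e (p.eval₂ φ x) := fun p =>
    (hom_eval₂ p φ e.toRingHom x).symm
  refine ⟨S.prim, S.pos, fun s hs => (S.unit s hs).map e.toRingHom, ?_, fun p hp h => S.indep p hp ?_, fun z => ?_⟩
  · rw [hev, S.root, map_zero]
  · rwa [hev, map_eq_zero_iff _ e.injective] at h
  · obtain ⟨s, hs, p, hp⟩ := S.span (e.symm z)
    refine ⟨s, hs, p, ?_⟩
    rw [hev, ← hp, map_mul, e.apply_symm_apply]
    rfl

theorem trdeg_eq_one {K : Type u} [Field K] [Algebra k K] {y : K} (hy : Transcendental k y)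
    [Algebra.IsAlgebraic k⟮y⟯ K] : Algebra.trdeg k K = 1 := by
  have hind : AlgebraicIndependent k (fun _ : PUnit.{u + 1} => y) :=
    algebraicIndependent_unique_type_iff.2 hy
  have hb : IsTranscendenceBasis k (fun _ : PUnit.{u + 1} => y) := by
    rw [hind.isTranscendenceBasis_iff_isAlgebraic]
    rw [show Set.range (fun _ : PUnit.{u + 1} => y) = {y} from Set.range_const,
      ← IntermediateField.isAlgebraic_adjoin_iff_top]
    infer_instance
  rw [← hb.cardinalMk_eq_trdeg]
  exact Cardinal.mk_fintype _ |>.trans (by simp)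

theorem finrank_adjoin_map {K K' : Type*} [Field K] [Field K'] [Algebra k K] [Algebra k K'] (e : K ≃ₐ[k] K') (y : K) :
    Module.finrank k⟮e y⟯ K' = Module.finrank k⟮y⟯ K := by
  have h : IntermediateField.map (e : K →ₐ[k] K') k⟮y⟯ = k⟮e y⟯ := by
    rw [IntermediateField.adjoin_map, Set.image_singleton]; rfl
  let i : k⟮y⟯ ≃ₐ[k] k⟮e y⟯ := (IntermediateField.intermediateFieldMap e k⟮y⟯).trans (IntermediateField.equivOfEq h)
  exact (Algebra.finrank_eq_of_equiv_equiv i.toRingEquiv e.toRingEquiv (RingHom.ext fun a => rfl)).symm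

/-- The algebra `k(y)[x]/(G)`. -/
noncomputable abbrev KG (G : (k[X])[X]) : Type u := AdjoinRoot (G.map (algebraMap k[X] (RatFunc k)))

/-- The map recording `y`. -/
noncomputable def phiG (G : (k[X])[X]) : k[X] →+* KG G :=
  (algebraMap (RatFunc k) (KG G)).comp (algebraMap k[X] (RatFunc k))

theorem setupG {G : (k[X])[X]} (hG : G.IsPrimitive) (hpos : 0 < G.natDegree) :
    Setup G (phiG G) (AdjoinRoot.root _) := by
  have hinj := RatFunc.algebraMap_injective k
  have hev : ∀ p : (k[X])[X], p.eval₂ (phiG G) (AdjoinRoot.root _) =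
      AdjoinRoot.mk (G.map (algebraMap k[X] (RatFunc k))) (p.map (algebraMap k[X] (RatFunc k))) := fun p => by
    rw [← AdjoinRoot.aeval_eq, aeval_def, eval₂_map]
    rfl
  refine ⟨hG, hpos, fun s hs => ?_, ?_, fun p hp h => ?_, fun z => ?_⟩
  · exact ((isUnit_iff_ne_zero.2 ((map_ne_zero_iff _ hinj).2 hs))).map (algebraMap (RatFunc k) (KG G))
  · rw [hev, AdjoinRoot.mk_self]
  · rw [hev, AdjoinRoot.mk_eq_zero] at h
    have h0 := eq_zero_of_dvd_of_natDegree_lt h (by rwa [natDegree_map_eq_of_injective hinj, natDegree_map_eq_of_injective hinj])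
    exact (Polynomial.map_eq_zero_iff hinj).1 h0
  · obtain ⟨q, rfl⟩ := AdjoinRoot.mk_surjective z
    obtain ⟨s, hs, hsq⟩ := IsLocalization.integerNormalization_spec (nonZeroDivisors k[X]) q
    refine ⟨s, nonZeroDivisors.ne_zero hs, IsLocalization.integerNormalization (nonZeroDivisors k[X]) q, ?_⟩
    rw [hev]
    have : (IsLocalization.integerNormalization (nonZeroDivisors k[X]) q).map (algebraMap k[X] (RatFunc k)) =
        C (algebraMap k[X] (RatFunc k) s) * q := by
      rw [hsq]
      ext1 i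
      rw [coeff_smul, coeff_C_mul, Algebra.smul_def]
    rw [this, map_mul, AdjoinRoot.mk_C]
    rfl

theorem phiG_C (G : (k[X])[X]) (c : k) : phiG G (C c) = algebraMap k (KG G) c := by
  rw [phiG, RingHom.comp_apply, ← Polynomial.algebraMap_eq, ← IsScalarTower.algebraMap_apply k k[X] (RatFunc k),
    ← IsScalarTower.algebraMap_apply k (RatFunc k) (KG G)]

theorem irreducible_of_good [IsAlgClosed k] {G : (k[X])[X]} {d r r' : ℕ} (hprim : G.IsPrimitive)
    (hgood : Good G d r r') : Irreducible (G.map (algebraMap k[X] (RatFunc k))) := by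
  have hpos : 0 < G.natDegree := lt_of_lt_of_le two_pos hgood.two
  have hne : G.map (algebraMap k[X] (RatFunc k)) ≠ 0 :=
    (Polynomial.map_ne_zero_iff (RatFunc.algebraMap_injective k)).2 hprim.ne_zero
  have S := setupG hprim hpos
  haveI : FiniteDimensional (RatFunc k) (KG G) := (AdjoinRoot.powerBasis hne).finite
  haveI : IsArtinianRing (KG G) := IsArtinianRing.of_finite (RatFunc k) (KG G)
  have hfield : IsField (KG G) := S.isField hgood.toChart
  have hmax : (Ideal.span {G.map (algebraMap k[X] (RatFunc k))}).IsMaximal :=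
    Ideal.Quotient.maximal_of_isField _ hfield
  exact ((Ideal.span_singleton_prime hne).1 hmax.isPrime).irreducible

theorem finrank_of_ratFunc {K : Type*} [Field K] [Algebra k K] (w : RatFunc k →ₐ[k] K) :
    letI := w.toRingHom.toAlgebra
    Module.finrank k⟮w RatFunc.X⟯ K = Module.finrank (RatFunc k) K := by
  letI := w.toRingHom.toAlgebra
  have hrange : k⟮w RatFunc.X⟯ = w.fieldRange := by
    rw [AlgHom.fieldRange_eq_map, ← RatFunc.adjoin_X (K := k), IntermediateField.adjoin_map, Set.image_singleton]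
  let i : RatFunc k ≃+* k⟮w RatFunc.X⟯ :=
    ((AlgEquiv.ofInjectiveField w).trans (IntermediateField.equivOfEq hrange.symm)).toRingEquiv
  exact (Algebra.finrank_eq_of_equiv_equiv i (RingEquiv.refl K) (RingHom.ext fun a => rfl)).symm

theorem fg_of_setup {K : Type*} [Field K] [Algebra k K] {G : (k[X])[X]} {φ : k[X] →+* K} {x : K}
    (S : Setup G φ x) (hφC : ∀ c, φ (C c) = algebraMap k K c) : (⊤ : IntermediateField k K).FG := by
  classical
  refine ⟨{φ X, x}, eq_top_iff.2 fun z _ => ?_⟩
  obtain ⟨s, hs, p, hp⟩ := S.span z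
  rw [Finset.coe_insert, Finset.coe_singleton]
  set E := IntermediateField.adjoin k ({φ X, x} : Set K)
  have hy : φ X ∈ E := IntermediateField.subset_adjoin k _ (Set.mem_insert _ _)
  have hk : ∀ f : k[X], φ f ∈ E := fun f => by
    have e : φ f = ∑ l ∈ Finset.range (f.natDegree + 1), f.coeff l • φ X ^ l :=
      (map_eq_aeval hφC f).trans (aeval_eq_sum_range (φ X))
    rw [e]
    exact sum_mem fun l _ => E.smul_mem (pow_mem hy _)
  rw [eq_inv_mul_iff_mul_eq₀ (S.unit s hs).ne_zero |>.2 hp]
  refine mul_mem (inv_mem (hk s)) ?_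
  rw [eval₂_eq_sum_range]
  have hxE : x ∈ E := IntermediateField.subset_adjoin k _ (Set.mem_insert_of_mem _ (Set.mem_singleton x))
  exact sum_mem fun l _ => mul_mem (hk _) (pow_mem hxE _)

theorem finrank_KG {G : (k[X])[X]} [Fact (Irreducible (G.map (algebraMap k[X] (RatFunc k))))] :
    Module.finrank k⟮phiG G X⟯ (KG G) = G.natDegree := by
  have hne : G.map (algebraMap k[X] (RatFunc k)) ≠ 0 := (Fact.out : Irreducible _).ne_zero
  have h := finrank_of_ratFunc (IsScalarTower.toAlgHom k (RatFunc k) (KG G))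
  have hwX : IsScalarTower.toAlgHom k (RatFunc k) (KG G) RatFunc.X = phiG G X := by
    show algebraMap (RatFunc k) (KG G) RatFunc.X = _
    rw [← RatFunc.algebraMap_X]; rfl
  rw [hwX] at h
  rw [h]
  have hd : Module.finrank (RatFunc k) (KG G) = G.natDegree := by
    rw [(AdjoinRoot.powerBasis hne).finrank, AdjoinRoot.powerBasis_dim,
      natDegree_map_eq_of_injective (RatFunc.algebraMap_injective k)]
  have e : ((IsScalarTower.toAlgHom k (RatFunc k) (KG G)).toRingHom.toAlgebra : Algebra (RatFunc k) (KG G)) =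
      AdjoinRoot.instAlgebra (G.map (algebraMap k[X] (RatFunc k))) := Algebra.algebra_ext _ _ fun r => rfl
  exact Eq.trans (congrArg (fun a : Algebra (RatFunc k) (KG G) =>
    @Module.finrank (RatFunc k) (KG G) _ _ a.toModule) e) hd

/-- Function fields with a prescribed genus and degree. -/
theorem exists_ff [IsAlgClosed k] (g d : ℕ) (hg : 0 < g) (hd : 2 ≤ d) :
    ∃ (G : (k[X])[X]) (r r' : ℕ), Good G d r r' ∧
      ((G.natDegree : ℤ) - 1) * ((d : ℤ) - 1) - (r + r') = g ∧
      ∃ (K : Type u) (_ : Field K) (_ : Algebra k K) (φ : k[X] →+* K) (x : K),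
        Setup G φ x ∧ (∀ c, φ (C c) = algebraMap k K c) ∧ Module.finrank k⟮φ X⟯ K = G.natDegree ∧
        (⊤ : IntermediateField k K).FG ∧ Algebra.trdeg k K = 1 := by
  obtain ⟨n, r, hr, h1⟩ : ∃ n r : ℕ, r + 2 ≤ d ∧ (n + 1) * (d - 1) = g + r := by
    have hdiv := Nat.div_add_mod (g - 1) (d - 1)
    have hmod := Nat.mod_lt (g - 1) (show 0 < d - 1 by omega)
    generalize hq : (g - 1) / (d - 1) = q at hdiv
    generalize hm : (g - 1) % (d - 1) = e at hdiv hmod
    refine ⟨q, d - 2 - e, by omega, ?_⟩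
    rw [add_mul, one_mul, mul_comm q]
    omega
  obtain ⟨G, hdeg, hprim, hgood⟩ := exists_good (k := k) n d (r / 2) (r - r / 2) (by omega) (by omega) (by omega)
  refine ⟨G, r / 2, r - r / 2, hgood, ?_, ?_⟩
  · have h2 : ((r / 2 : ℕ) : ℤ) + ((r - r / 2 : ℕ) : ℤ) = r := by omega
    have h3 : ((n : ℤ) + 1) * ((d : ℤ) - 1) = g + r := by
      have := congrArg (fun q : ℕ => (q : ℤ)) h1
      simp only [Nat.cast_mul, Nat.cast_add, Nat.cast_one] at this
      rw [← this, Nat.cast_sub (show 1 ≤ d by omega), Nat.cast_one]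
    rw [hdeg, h2]
    push_cast
    linear_combination h3
  haveI : Fact (Irreducible (G.map (algebraMap k[X] (RatFunc k)))) := ⟨irreducible_of_good hprim hgood⟩
  have S := setupG hprim (show 0 < G.natDegree by omega)
  have hfr := finrank_KG (G := G)
  haveI : FiniteDimensional k⟮phiG G X⟯ (KG G) := Module.finite_of_finrank_pos (by omega)
  exact ⟨KG G, inferInstance, inferInstance, phiG G, AdjoinRoot.root _, S, phiG_C G, hfr,
    fg_of_setup S (phiG_C G), trdeg_eq_one (transcendental_y S (phiG_C G))⟩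

end Groth.Agent.CurvFam16.Gonal
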