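import Mathlib.RingTheory.Polynomial.GaussLemma
import Mathlib.FieldTheory.RatFunc.AsPolynomial
import Mathlib.Algebra.Polynomial.Eval.Degree
import Mathlib.Algebra.Polynomial.Reverse
import Mathlib.RingTheory.Polynomial.Content

/-! An algebra over `k(y)` generated by a root `x` of a primitive binary form over `k[y]`. -/

namespace Groth.Agent.CurvFam16.Gonal

open Polynomial

variable {k K : Type*} [Field k] [CommRing K]

/-- `K` is `k(y)[x]/(G)`, the map `φ : k[y] → K` recording `y`. -/
structure Setup (G : (k[X])[X]) (φ : k[X] →+* K) (x : K) : Prop where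
  prim : G.IsPrimitive
  pos : 0 < G.natDegree
  unit : ∀ s : k[X], s ≠ 0 → IsUnit (φ s)
  root : G.eval₂ φ x = 0
  indep : ∀ p : (k[X])[X], p.natDegree < G.natDegree → p.eval₂ φ x = 0 → p = 0
  span : ∀ z : K, ∃ s : k[X], s ≠ 0 ∧ ∃ p : (k[X])[X], φ s * z = p.eval₂ φ x

variable {G : (k[X])[X]} {φ : k[X] →+* K} {x : K}

theorem prim_dvd_of_C_mul {p : (k[X])[X]} (hG : G.IsPrimitive) {s : k[X]} (hs : s ≠ 0)
    (h : G ∣ C s * p) : G ∣ p := by
  refine hG.dvd_of_fraction_map_dvd_fraction_map (K := RatFunc k) ?_
  have h' := Polynomial.map_dvd (algebraMap k[X] (RatFunc k)) h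
  rw [Polynomial.map_mul, map_C] at h'
  exact (IsUnit.dvd_mul_left (isUnit_C.2
    (isUnit_iff_ne_zero.2 ((map_ne_zero_iff _ (RatFunc.algebraMap_injective k)).2 hs)))).1 h'

theorem Setup.ne_zero (S : Setup G φ x) : G ≠ 0 := fun h => by
  have := S.pos
  rw [h, natDegree_zero] at this
  exact lt_irrefl _ this

theorem Setup.dvd (S : Setup G φ x) : ∀ (N : ℕ) (p : (k[X])[X]), p.natDegree ≤ N →
    p.eval₂ φ x = 0 → G ∣ p := by
  intro N
  induction N with
  | zero =>
    intro p hp h
    rw [S.indep p (by have := S.pos; omega) h]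
    exact dvd_zero _
  | succ N ih =>
    intro p hp h
    by_cases hlt : p.natDegree < G.natDegree
    · rw [S.indep p hlt h]
      exact dvd_zero _
    have hGdeg := S.pos
    let q : (k[X])[X] := C G.leadingCoeff * p - C p.leadingCoeff * X ^ (p.natDegree - G.natDegree) * G
    have hq0 : q.eval₂ φ x = 0 := by
      simp only [q, eval₂_sub, eval₂_mul, h, S.root, mul_zero, sub_zero]
    have hqdeg : q.natDegree ≤ N := by
      rw [natDegree_le_iff_coeff_eq_zero]
      intro i hi
      simp only [q, coeff_sub, coeff_C_mul, mul_assoc, coeff_X_pow_mul']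
      split_ifs with hle
      · rcases eq_or_lt_of_le (show p.natDegree ≤ i by omega) with he | hlt'
        · subst he
          rw [show p.natDegree - (p.natDegree - G.natDegree) = G.natDegree by omega]
          simp only [coeff_natDegree, mul_comm, sub_self]
        · rw [coeff_eq_zero_of_natDegree_lt hlt', coeff_eq_zero_of_natDegree_lt (p := G) (by omega)]
          simp
      · omega
    have := ih q hqdeg hq0
    refine prim_dvd_of_C_mul S.prim (leadingCoeff_ne_zero.2 S.ne_zero) ?_
    have h2 : G ∣ C p.leadingCoeff * X ^ (p.natDegree - G.natDegree) * G := dvd_mul_left _ _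
    simpa [q] using dvd_add this h2

theorem Setup.dvd_of_eval (S : Setup G φ x) {p : (k[X])[X]} (h : p.eval₂ φ x = 0) : G ∣ p :=
  S.dvd _ p le_rfl h

/-- The elements `θ_j = f_m x^j + ⋯ + f_{m-j+1} x`, with `θ_0 = 1`. -/
noncomputable def thetaPoly (G : (k[X])[X]) (j : ℕ) : (k[X])[X] :=
  if j = 0 then 1 else ∑ i ∈ Finset.range j, C (G.coeff (G.natDegree - i)) * X ^ (j - i)

theorem thetaPoly_natDegree_le (G : (k[X])[X]) (j : ℕ) : (thetaPoly G j).natDegree ≤ j := by
  unfold thetaPoly
  split_ifs with h
  · simp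
  · refine natDegree_sum_le_of_forall_le _ _ fun i _ => (natDegree_C_mul_X_pow_le _ _).trans ?_
    omega

theorem thetaPoly_coeff_top (G : (k[X])[X]) {j : ℕ} (hj : j ≠ 0) :
    (thetaPoly G j).coeff j = G.leadingCoeff := by
  rw [thetaPoly, if_neg hj, finsetSum_coeff, Finset.sum_eq_single_of_mem 0 (Finset.mem_range.2 (by omega))]
  · simp
  · intro i hi hi0
    rw [coeff_C_mul_X_pow, if_neg (by rw [Finset.mem_range] at hi; omega)]

theorem thetaPoly_succ (G : (k[X])[X]) {j : ℕ} (hj : j ≠ 0) :
    thetaPoly G (j + 1) = X * (thetaPoly G j + C (G.coeff (G.natDegree - j))) := by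
  rw [thetaPoly, if_neg (by omega), thetaPoly, if_neg hj, Finset.sum_range_succ, mul_add, Finset.mul_sum]
  refine congrArg₂ (· + ·) ?_ ?_
  · refine Finset.sum_congr rfl fun i hi => ?_
    rw [Finset.mem_range] at hi
    rw [show j + 1 - i = (j - i) + 1 by omega, pow_succ]
    ring
  · rw [show j + 1 - j = 1 by omega]
    ring

/-- `x^{m-j} (θ_j + f_{m-j}) + (lower terms) = G`. -/
theorem thetaPoly_tail {j : ℕ} (hj : j ≠ 0) (hjm : j ≤ G.natDegree) :
    X ^ (G.natDegree - j) * thetaPoly G j +
      ∑ i ∈ Finset.range (G.natDegree - j + 1), C (G.coeff i) * X ^ i = G := by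
  conv_rhs => rw [G.as_sum_range_C_mul_X_pow]
  rw [thetaPoly, if_neg hj, Finset.mul_sum,
    ← Finset.sum_range_add_sum_Ico _ (show G.natDegree - j + 1 ≤ G.natDegree + 1 by omega), add_comm]
  refine congrArg₂ (· + ·) rfl ?_
  rw [Finset.sum_Ico_eq_sum_range, show G.natDegree + 1 - (G.natDegree - j + 1) = j by omega,
    ← Finset.sum_range_reflect]
  refine Finset.sum_congr rfl fun i hi => ?_
  rw [Finset.mem_range] at hi
  rw [show G.natDegree - (j - 1 - i) = G.natDegree - j + 1 + i by omega, mul_left_comm, ← pow_add]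
  congr 2
  omega

/-- The span over `φ(k[y])` of `θ_0, …, θ_{m-1}`. -/
def thetaSpan (G : (k[X])[X]) (φ : k[X] →+* K) (x : K) : Set K :=
  {z | ∃ c : ℕ → k[X], z = ∑ j ∈ Finset.range G.natDegree, φ (c j) * (thetaPoly G j).eval₂ φ x}

/-- An element that is a polynomial in `x` and a polynomial in `1/x` lies in the span of the `θ_j`. -/
theorem Setup.mem_thetaSpan (S : Setup G φ x) {xi : K} (hxi : x * xi = 1) :
    ∀ (D : ℕ) (p : (k[X])[X]), p.natDegree ≤ D → (∃ q : (k[X])[X], p.eval₂ φ x = q.eval₂ φ xi) →
      p.eval₂ φ x ∈ thetaSpan G φ x := by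
  have hm := S.pos
  intro D
  induction D with
  | zero =>
    intro p hp _
    refine ⟨fun j => if j = 0 then p.coeff 0 else 0, ?_⟩
    rw [eq_C_of_natDegree_le_zero hp, eval₂_C, Finset.sum_eq_single_of_mem 0 (Finset.mem_range.2 S.pos)]
    · simp [thetaPoly]
    · intro j _ hj
      simp [hj]
  | succ D ih =>
    intro p hp ⟨q, hq⟩
    by_cases hlow : p.natDegree ≤ D
    · exact ih p hlow ⟨q, hq⟩
    have hdeg : p.natDegree = D + 1 := by omega
    have hpne : p ≠ 0 := fun h => by rw [h, natDegree_zero] at hdeg; omega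
    -- clear the denominators
    have hscale : (q.reflect q.natDegree).eval₂ φ x = x ^ q.natDegree * q.eval₂ φ xi := by
      rw [eval₂_eq_sum_range' φ (Nat.lt_succ_of_le (show (q.reflect q.natDegree).natDegree ≤ q.natDegree by
        simpa using natDegree_reflect_le (N := q.natDegree) (p := q))) x, eval₂_eq_sum_range,
        Finset.mul_sum, ← Finset.sum_range_reflect]
      refine Finset.sum_congr rfl fun i hi => ?_
      rw [Finset.mem_range] at hi
      simp only [coeff_reflect, Nat.add_sub_cancel, Nat.succ_eq_add_one]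
      rw [revAt_le (by omega), show q.natDegree - (q.natDegree - i) = i by omega, mul_left_comm]
      refine congrArg₂ (· * ·) rfl ?_
      rw [show x ^ q.natDegree = x ^ (q.natDegree - i) * x ^ i by rw [← pow_add]; congr 1; omega,
        mul_assoc, ← mul_pow, hxi, one_pow, mul_one]
    obtain ⟨h, hh⟩ := S.dvd_of_eval (p := X ^ q.natDegree * p - q.reflect q.natDegree) (by
      rw [eval₂_sub, eval₂_mul, eval₂_X_pow, hscale, hq, sub_self])
    have htop : (X ^ q.natDegree * p - q.reflect q.natDegree).natDegree = q.natDegree + (D + 1) := by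
      rw [natDegree_sub_eq_left_of_natDegree_lt, natDegree_mul (pow_ne_zero _ X_ne_zero) hpne,
        natDegree_X_pow, hdeg]
      rw [natDegree_mul (pow_ne_zero _ X_ne_zero) hpne, natDegree_X_pow, hdeg]
      exact lt_of_le_of_lt natDegree_reflect_le (by simp)
    have hhne : h ≠ 0 := fun h0 => by
      rw [hh, h0, mul_zero, natDegree_zero] at htop; omega
    have hlead : G.leadingCoeff * h.leadingCoeff = p.leadingCoeff := by
      have h1 : (X ^ q.natDegree * p - q.reflect q.natDegree).coeff (q.natDegree + (D + 1)) =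
          (G * h).coeff (q.natDegree + (D + 1)) := by rw [hh]
      rw [coeff_sub, coeff_eq_zero_of_natDegree_lt (p := q.reflect q.natDegree)
          (lt_of_le_of_lt natDegree_reflect_le (by simp)), sub_zero,
        show q.natDegree + (D + 1) = D + 1 + q.natDegree by omega, coeff_X_pow_mul] at h1
      rw [← leadingCoeff_mul, leadingCoeff, leadingCoeff, hdeg, h1, ← hh, htop,
        show q.natDegree + (D + 1) = D + 1 + q.natDegree by omega]
    by_cases hbig : G.natDegree ≤ D + 1
    · -- reduce by `G`
      let p' := p - C h.leadingCoeff * X ^ (D + 1 - G.natDegree) * G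
      have hval : p'.eval₂ φ x = p.eval₂ φ x := by
        simp only [p', eval₂_sub, eval₂_mul, S.root, mul_zero, sub_zero]
      rw [← hval]
      refine ih p' ?_ ⟨q, hval.trans hq⟩
      rw [natDegree_le_iff_coeff_eq_zero]
      intro i hi
      simp only [p', coeff_sub, mul_assoc, coeff_C_mul, coeff_X_pow_mul']
      rw [if_pos (by omega)]
      rcases eq_or_lt_of_le (show D + 1 ≤ i by omega) with he | hlt
      · rw [← he, show D + 1 - (D + 1 - G.natDegree) = G.natDegree by omega, ← hdeg,
          show G.coeff G.natDegree = G.leadingCoeff from rfl,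
          show p.coeff p.natDegree = p.leadingCoeff from rfl, ← hlead]
        ring
      · rw [coeff_eq_zero_of_natDegree_lt (by omega),
          coeff_eq_zero_of_natDegree_lt (p := G) (by omega)]
        ring
    · -- subtract a multiple of `θ_{D+1}`, which is a polynomial in `1/x`
      let p' := p - C h.leadingCoeff * thetaPoly G (D + 1)
      have hsplit : p.eval₂ φ x = p'.eval₂ φ x + φ h.leadingCoeff * (thetaPoly G (D + 1)).eval₂ φ x := by
        simp only [p', eval₂_sub, eval₂_mul, eval₂_C, sub_add_cancel]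
      have hθ : (thetaPoly G (D + 1)).eval₂ φ x =
          -∑ i ∈ Finset.range (G.natDegree - (D + 1) + 1), φ (G.coeff i) * xi ^ (G.natDegree - (D + 1) - i) := by
        have h1 := congrArg (fun r : (k[X])[X] => r.eval₂ φ x)
          (thetaPoly_tail (G := G) (j := D + 1) (by omega) (by omega))
        simp only [eval₂_add, eval₂_mul, eval₂_X_pow, eval₂_finsetSum, eval₂_C, S.root] at h1
        rw [eq_neg_iff_add_eq_zero]
        calc _ = xi ^ (G.natDegree - (D + 1)) * (x ^ (G.natDegree - (D + 1)) * (thetaPoly G (D + 1)).eval₂ φ x +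
              ∑ i ∈ Finset.range (G.natDegree - (D + 1) + 1), φ (G.coeff i) * x ^ i) := by
              rw [mul_add, ← mul_assoc, ← mul_pow, mul_comm xi, hxi, one_pow, one_mul, Finset.mul_sum]
              congr 1
              refine Finset.sum_congr rfl fun i hi => ?_
              rw [Finset.mem_range] at hi
              rw [show xi ^ (G.natDegree - (D + 1)) = xi ^ (G.natDegree - (D + 1) - i) * xi ^ i by
                rw [← pow_add]; congr 1; omega]
              calc _ = φ (G.coeff i) * xi ^ (G.natDegree - (D + 1) - i) * (x * xi) ^ i := by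
                    rw [hxi, one_pow, mul_one]
                _ = _ := by rw [mul_pow]; ring
          _ = 0 := by rw [h1, mul_zero]
      obtain ⟨c, hc⟩ := ih p' (by
        rw [natDegree_le_iff_coeff_eq_zero]
        intro i hi
        simp only [p', coeff_sub, coeff_C_mul]
        rcases eq_or_lt_of_le (show D + 1 ≤ i by omega) with he | hlt
        · rw [← he, thetaPoly_coeff_top G (by omega), ← hdeg,
            show p.coeff p.natDegree = p.leadingCoeff from rfl, ← hlead]
          ring
        · rw [coeff_eq_zero_of_natDegree_lt (by omega),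
            coeff_eq_zero_of_natDegree_lt (lt_of_le_of_lt (thetaPoly_natDegree_le G _) hlt)]
          ring)
        ⟨q + ∑ i ∈ Finset.range (G.natDegree - (D + 1) + 1),
            C (h.leadingCoeff * G.coeff i) * X ^ (G.natDegree - (D + 1) - i), by
          have : p'.eval₂ φ x = p.eval₂ φ x - φ h.leadingCoeff * (thetaPoly G (D + 1)).eval₂ φ x := by
            rw [hsplit, add_sub_cancel_right]
          rw [this, hθ, hq, eval₂_add, eval₂_finsetSum, mul_neg, sub_neg_eq_add, Finset.mul_sum]
          simp only [eval₂_mul, eval₂_C, eval₂_X_pow, map_mul, mul_assoc]⟩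
      refine ⟨Function.update c (D + 1) (c (D + 1) + h.leadingCoeff), ?_⟩
      have hmem : D + 1 ∈ Finset.range G.natDegree := Finset.mem_range.2 (by omega)
      rw [hsplit, hc, ← Finset.add_sum_erase _ _ hmem, ← Finset.add_sum_erase _ _ hmem,
        Function.update_self, map_add, add_mul]
      rw [Finset.sum_congr rfl (s₁ := (Finset.range G.natDegree).erase (D + 1))
        (f := fun j => φ (Function.update c (D + 1) (c (D + 1) + h.leadingCoeff) j) * (thetaPoly G j).eval₂ φ x)
        (g := fun j => φ (c j) * (thetaPoly G j).eval₂ φ x)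
        fun j hj => by simp only [Function.update_of_ne (Finset.ne_of_mem_erase hj)]]
      ring

end Groth.Agent.CurvFam16.Gonal
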